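import Groth.Prelude.Def_Biext
import Mathlib.CategoryTheory.Sites.SheafOfTypes
import Mathlib.Algebra.Category.Grp.Limits

/-! The group laws on the fibres of a biextension: units, negatives, gluing. -/

set_option autoImplicit false
set_option backward.isDefEq.respectTransparency.types false

universe u

open CategoryTheory CategoryTheory.Limits Opposite

namespace Groth.L07.BiextTriv

variable {C : Type (u + 1)} [Category.{u} C] {J : GrothendieckTopology C}

section AbSheaf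

variable (F : Sheaf J AddCommGrpCat.{u + 1})

theorem map_map {T T' T'' : C} (f : T' ⟶ T) (g : T'' ⟶ T') (x : F.obj.obj (op T)) :
    F.obj.map g.op (F.obj.map f.op x) = F.obj.map (g ≫ f).op x := by
  rw [op_comp, Functor.map_comp]; rfl

theorem map_id' {T : C} (x : F.obj.obj (op T)) : F.obj.map (𝟙 T).op x = x := by
  rw [op_id, F.obj.map_id]; rfl

theorem isSheafFor {T : C} {R : Sieve T} (hR : R ∈ J T) :
    Presieve.IsSheafFor (F.obj ⋙ forget AddCommGrpCat.{u + 1}) R.arrows :=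
  (isSheaf_iff_isSheaf_of_type J (Biext.uSh J F).obj).1 (Biext.uSh J F).property R hR

theorem eq_of_locally {T : C} {R : Sieve T} (hR : R ∈ J T) (a b : F.obj.obj (op T))
    (h : ∀ ⦃T' : C⦄ (r : T' ⟶ T), R r → F.obj.map r.op a = F.obj.map r.op b) : a = b :=
  (isSheafFor F hR).isSeparatedFor.ext fun _ r hr => h r hr

end AbSheaf

variable {P Q G : Sheaf J AddCommGrpCat.{u + 1}} (B : Biext J P Q G)

/-- Restriction of sections of the biextension. -/
abbrev res {T T' : C} (f : T' ⟶ T) (x : B.E.obj.obj (op T)) : B.E.obj.obj (op T') := B.E.obj.map f.op x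

theorem res_res {T T' T'' : C} (f : T' ⟶ T) (g : T'' ⟶ T') (x : B.E.obj.obj (op T)) :
    res B g (res B f x) = res B (g ≫ f) x := by
  show B.E.obj.map g.op (B.E.obj.map f.op x) = B.E.obj.map (g ≫ f).op x
  rw [op_comp, Functor.map_comp]; rfl

theorem isSheafForE {T : C} {R : Sieve T} (hR : R ∈ J T) : Presieve.IsSheafFor B.E.obj R.arrows :=
  (isSheaf_iff_isSheaf_of_type J B.E.obj).1 B.E.property R hR

theorem eq_of_locallyE {T : C} {R : Sieve T} (hR : R ∈ J T) (a b : B.E.obj.obj (op T))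
    (h : ∀ ⦃T' : C⦄ (r : T' ⟶ T), R r → res B r a = res B r b) : a = b :=
  (isSheafForE B hR).isSeparatedFor.ext fun _ r hr => h r hr

/-- The two laws exchanged. -/
def flip : Biext J Q P G where
  E := B.E
  πP := B.πQ
  πQ := B.πP
  πP_map := B.πQ_map
  πQ_map := B.πP_map
  act := B.act
  act_map := B.act_map
  πP_act := B.πQ_act
  πQ_act := B.πP_act
  zero_act := B.zero_act
  add_act := B.add_act
  existsUnique_act T x y h h' := B.existsUnique_act T x y h' h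
  locallySurjective T q p := by
    obtain ⟨R, hR, h⟩ := B.locallySurjective T p q
    exact ⟨R, hR, fun T' f hf => let ⟨x, hp, hq⟩ := h f hf; ⟨x, hq, hp⟩⟩
  add₁ := B.add₂
  πP_add₁ := B.πQ_add₂
  πQ_add₁ := B.πP_add₂
  add₁_map := B.add₂_map
  add₁_comm := B.add₂_comm
  add₁_assoc := B.add₂_assoc
  add₁_act := B.add₂_act
  add₂ := B.add₁
  πP_add₂ := B.πQ_add₁
  πQ_add₂ := B.πP_add₁
  add₂_map := B.add₁_map
  add₂_comm := B.add₁_comm
  add₂_assoc := B.add₁_assoc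
  add₂_act := B.add₁_act
  compat T x y z t hxy hzt hxz hyt := (B.compat T x z y t hxz hyt hxy hzt).symm

variable {T : C}

theorem add₁_congr {x x' z z' : B.E.obj.obj (op T)} (hx : x = x') (hz : z = z') (h : B.πQ T x = B.πQ T z)
    (h' : B.πQ T x' = B.πQ T z') : B.add₁ T x z h = B.add₁ T x' z' h' := by
  subst hx; subst hz; rfl

theorem add₂_congr {x x' z z' : B.E.obj.obj (op T)} (hx : x = x') (hz : z = z') (h : B.πP T x = B.πP T z)
    (h' : B.πP T x' = B.πP T z') : B.add₂ T x z h = B.add₂ T x' z' h' := by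
  subst hx; subst hz; rfl

theorem exists_act {x y : B.E.obj.obj (op T)} (hP : B.πP T x = B.πP T y) (hQ : B.πQ T x = B.πQ T y) :
    ∃ g : G.obj.obj (op T), B.act T g x = y := (B.existsUnique_act T x y hP hQ).exists

theorem act_inj {x : B.E.obj.obj (op T)} {g g' : G.obj.obj (op T)} (h : B.act T g x = B.act T g' x) :
    g = g' := (B.existsUnique_act T x (B.act T g' x) (B.πP_act T g' x).symm (B.πQ_act T g' x).symm).unique h rfl

theorem add₁_act_right (g : G.obj.obj (op T)) (x z : B.E.obj.obj (op T)) (h : B.πQ T x = B.πQ T z)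
    (h' : B.πQ T x = B.πQ T (B.act T g z)) :
    B.add₁ T x (B.act T g z) h' = B.act T g (B.add₁ T x z h) := by
  rw [B.add₁_comm T x (B.act T g z) h', B.add₁_act T g z x h.symm, B.add₁_comm T z x h.symm]

theorem add₁_act₂ (g g' : G.obj.obj (op T)) (x z : B.E.obj.obj (op T)) (h : B.πQ T x = B.πQ T z)
    (h' : B.πQ T (B.act T g x) = B.πQ T (B.act T g' z)) :
    B.add₁ T (B.act T g x) (B.act T g' z) h' = B.act T (g + g') (B.add₁ T x z h) := by
  rw [B.add₁_act T g x (B.act T g' z) (h.trans (B.πQ_act T g' z).symm),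
    add₁_act_right B g' x z h, B.add_act]

/-- Idempotents for the first law. -/
def IsZero₁ (q : Q.obj.obj (op T)) (e : B.E.obj.obj (op T)) : Prop :=
  B.πQ T e = q ∧ B.add₁ T e e rfl = e

theorem IsZero₁.πP {q : Q.obj.obj (op T)} {e : B.E.obj.obj (op T)} (h : IsZero₁ B q e) : B.πP T e = 0 := by
  have := congrArg (B.πP T) h.2
  rwa [B.πP_add₁, add_eq_left] at this

theorem IsZero₁.res {q : Q.obj.obj (op T)} {e : B.E.obj.obj (op T)} (h : IsZero₁ B q e) {T' : C}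
    (f : T' ⟶ T) : IsZero₁ B (Q.obj.map f.op q) (res B f e) :=
  ⟨by rw [B.πQ_map, h.1], ((B.add₁_map f e e rfl).symm.trans (congrArg (fun z => B.E.obj.map f.op z) h.2))⟩

theorem IsZero₁.unique {q : Q.obj.obj (op T)} {e e' : B.E.obj.obj (op T)} (h : IsZero₁ B q e)
    (h' : IsZero₁ B q e') : e = e' := by
  obtain ⟨g, hg⟩ := exists_act B (h.πP.trans h'.πP.symm) (h.1.trans h'.1.symm)
  subst hg
  have h2 := h'.2
  rw [add₁_act₂ B g g e e rfl, h.2] at h2
  have : g = 0 := add_eq_left.1 (act_inj B h2)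
  rw [this, B.zero_act]

theorem exists_isZero₁ (q : Q.obj.obj (op T)) : ∃ e, IsZero₁ B q e := by
  obtain ⟨R, hR, hx⟩ := B.locallySurjective T 0 q
  have hloc : ∀ ⦃T' : C⦄ (r : T' ⟶ T), R r → ∃ e, IsZero₁ B (Q.obj.map r.op q) e := by
    intro T' r hr
    obtain ⟨x, hp, hq⟩ := hx r hr
    rw [map_zero] at hp
    obtain ⟨g, hg⟩ := exists_act B (x := x) (y := B.add₁ T' x x rfl) (by rw [B.πP_add₁, hp, add_zero])
      (B.πQ_add₁ T' x x rfl).symm
    refine ⟨B.act T' (-g) x, (B.πQ_act T' _ x).trans hq, ?_⟩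
    rw [add₁_act₂ B (-g) (-g) x x rfl, ← hg, ← B.add_act]
    congr 1
    abel
  choose e he using hloc
  let fam : Presieve.FamilyOfElements B.E.obj R.arrows := fun T' r hr => e r hr
  have hfam : fam.Compatible := by
    intro Y₁ Y₂ Z g₁ g₂ r₁ r₂ h₁ h₂ hw
    refine IsZero₁.unique B ((he r₁ h₁).res B g₁) ?_
    rw [map_map, hw, ← map_map]
    exact (he r₂ h₂).res B g₂
  refine ⟨(isSheafForE B hR).amalgamate fam hfam, ?_⟩
  have hval : ∀ ⦃T' : C⦄ (r : T' ⟶ T) (hr : R r),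
      res B r ((isSheafForE B hR).amalgamate fam hfam) = e r hr :=
    fun T' r hr => (isSheafForE B hR).valid_glue hfam r hr
  refine ⟨eq_of_locally Q hR _ _ fun T' r hr => ?_, eq_of_locallyE B hR _ _ fun T' r hr => ?_⟩
  · rw [← B.πQ_map]
    exact (congrArg (B.πQ T') (hval r hr)).trans (he r hr).1
  · show B.E.obj.map r.op _ = _
    rw [B.add₁_map]
    exact (add₁_congr B (hval r hr) (hval r hr) _ rfl).trans ((he r hr).2.trans (hval r hr).symm)

/-- The unit of the first law. -/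
noncomputable def e₁ (q : Q.obj.obj (op T)) : B.E.obj.obj (op T) := (exists_isZero₁ B q).choose

theorem isZero_e₁ (q : Q.obj.obj (op T)) : IsZero₁ B q (e₁ B q) := (exists_isZero₁ B q).choose_spec

theorem πQ_e₁ (q : Q.obj.obj (op T)) : B.πQ T (e₁ B q) = q := (isZero_e₁ B q).1

theorem πP_e₁ (q : Q.obj.obj (op T)) : B.πP T (e₁ B q) = 0 := (isZero_e₁ B q).πP B

theorem res_e₁ {T' : C} (f : T' ⟶ T) (q : Q.obj.obj (op T)) :
    res B f (e₁ B q) = e₁ B (Q.obj.map f.op q) :=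
  ((isZero_e₁ B q).res B f).unique B (isZero_e₁ B _)

theorem add₂_e₁ (q q' : Q.obj.obj (op T)) :
    B.add₂ T (e₁ B q) (e₁ B q') ((πP_e₁ B q).trans (πP_e₁ B q').symm) = e₁ B (q + q') := by
  refine IsZero₁.unique B ⟨by rw [B.πQ_add₂, πQ_e₁, πQ_e₁], ?_⟩ (isZero_e₁ B _)
  rw [B.compat T _ _ _ _ _ _ rfl rfl]
  exact add₂_congr B (isZero_e₁ B q).2 (isZero_e₁ B q').2 _ _

theorem e₁_add (x : B.E.obj.obj (op T)) :
    B.add₁ T (e₁ B (B.πQ T x)) x (πQ_e₁ B _) = x := by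
  obtain ⟨g, hg⟩ := exists_act B (x := x) (y := B.add₁ T (e₁ B (B.πQ T x)) x (πQ_e₁ B _))
    (by rw [B.πP_add₁, πP_e₁, zero_add]) (by rw [B.πQ_add₁, πQ_e₁])
  rw [← hg]
  have h := B.add₁_assoc T (e₁ B (B.πQ T x)) (e₁ B (B.πQ T x)) x rfl (πQ_e₁ B _)
  rw [add₁_congr B (isZero_e₁ B _).2 rfl _ (πQ_e₁ B _),
    add₁_congr B rfl hg.symm _ ((πQ_e₁ B _).trans (B.πQ_act T g x).symm),
    add₁_act_right B g _ x (πQ_e₁ B _), ← hg, ← B.add_act] at h
  have : g = 0 := (add_eq_left.1 (act_inj B h).symm)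
  rw [this, B.zero_act]

theorem add₁_cancel {x z z' : B.E.obj.obj (op T)} (h : B.πQ T x = B.πQ T z) (h' : B.πQ T x = B.πQ T z')
    (e : B.add₁ T x z h = B.add₁ T x z' h') : z = z' := by
  have hp := congrArg (B.πP T) e
  rw [B.πP_add₁, B.πP_add₁] at hp
  obtain ⟨g, rfl⟩ := exists_act B (add_left_cancel hp) (h.symm.trans h')
  rw [add₁_act_right B g x z h] at e
  have : g = 0 := (act_inj B (g := 0) ((B.zero_act T _).trans e)).symm
  rw [this, B.zero_act]

theorem exists_neg₁ (x : B.E.obj.obj (op T)) :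
    ∃ (z : B.E.obj.obj (op T)) (h : B.πQ T x = B.πQ T z), B.add₁ T x z h = e₁ B (B.πQ T x) := by
  obtain ⟨R, hR, hx⟩ := B.locallySurjective T (-B.πP T x) (B.πQ T x)
  have hloc : ∀ ⦃T' : C⦄ (r : T' ⟶ T), R r → ∃ (z : B.E.obj.obj (op T'))
      (h : B.πQ T' (res B r x) = B.πQ T' z), B.add₁ T' (res B r x) z h = e₁ B (B.πQ T' (res B r x)) := by
    intro T' r hr
    obtain ⟨z, hp, hq⟩ := hx r hr
    rw [map_neg, ← B.πP_map] at hp
    rw [← B.πQ_map] at hq
    obtain ⟨g, hg⟩ := exists_act B (x := B.add₁ T' (res B r x) z hq.symm)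
      (y := e₁ B (B.πQ T' (res B r x))) (by rw [B.πP_add₁, hp, πP_e₁]; exact add_neg_cancel _)
      (by rw [B.πQ_add₁, πQ_e₁])
    exact ⟨B.act T' g z, hq.symm.trans (B.πQ_act T' g z).symm,
      (add₁_act_right B g _ z hq.symm _).trans hg⟩
  choose z hz he using hloc
  let fam : Presieve.FamilyOfElements B.E.obj R.arrows := fun T' r hr => z r hr
  have hq : ∀ ⦃T' Z : C⦄ (r : T' ⟶ T) (hr : R r) (g : Z ⟶ T'),
      B.πQ Z (res B (g ≫ r) x) = B.πQ Z (res B g (z r hr)) := fun T' Z r hr g => by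
    rw [← res_res, B.πQ_map, B.πQ_map g (z r hr), hz r hr]
  have he' : ∀ ⦃T' Z : C⦄ (r : T' ⟶ T) (hr : R r) (g : Z ⟶ T'),
      B.add₁ Z (res B (g ≫ r) x) (res B g (z r hr)) (hq r hr g) = e₁ B (B.πQ Z (res B (g ≫ r) x)) := by
    intro T' Z r hr g
    have := congrArg (res B g) (he r hr)
    rw [res_e₁, ← B.πQ_map] at this
    refine (add₁_congr B (res_res B r g x).symm rfl _ ?_).trans
      ((B.add₁_map g _ _ (hz r hr)).symm.trans (this.trans ?_))
    · rw [B.πQ_map, B.πQ_map g (z r hr), hz r hr]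
    · exact congrArg (fun w => e₁ B (B.πQ Z w)) (res_res B r g x)
  have hfam : fam.Compatible := by
    intro Y₁ Y₂ Z g₁ g₂ r₁ r₂ h₁ h₂ hw
    have e1 := he' r₁ h₁ g₁
    have e2 := he' r₂ h₂ g₂
    refine add₁_cancel B (hq r₁ h₁ g₁) ?_ (e1.trans ?_)
    · rw [hw]; exact hq r₂ h₂ g₂
    · exact (congrArg (fun w => e₁ B (B.πQ Z (res B w x))) hw).trans
        (e2.symm.trans (add₁_congr B (congrArg (fun w => res B w x) hw.symm) rfl _ _))
  have hval : ∀ ⦃T' : C⦄ (r : T' ⟶ T) (hr : R r),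
      res B r ((isSheafForE B hR).amalgamate fam hfam) = z r hr :=
    fun T' r hr => (isSheafForE B hR).valid_glue hfam r hr
  have hh : B.πQ T x = B.πQ T ((isSheafForE B hR).amalgamate fam hfam) :=
    eq_of_locally Q hR _ _ fun T' r hr => by
      rw [← B.πQ_map, ← B.πQ_map]
      exact (hz r hr).trans (congrArg (B.πQ T') (hval r hr)).symm
  refine ⟨_, hh, eq_of_locallyE B hR _ _ fun T' r hr => ?_⟩
  show B.E.obj.map r.op _ = _
  rw [B.add₁_map]
  exact (add₁_congr B rfl (hval r hr) _ (hz r hr)).trans ((he r hr).trans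
    ((congrArg (e₁ B) (B.πQ_map r x)).trans (res_e₁ B r _).symm))

/-- The negative for the first law. -/
noncomputable def neg₁ (x : B.E.obj.obj (op T)) : B.E.obj.obj (op T) := (exists_neg₁ B x).choose

theorem πQ_neg₁ (x : B.E.obj.obj (op T)) : B.πQ T (neg₁ B x) = B.πQ T x :=
  (exists_neg₁ B x).choose_spec.choose.symm

theorem add_neg₁ (x : B.E.obj.obj (op T)) :
    B.add₁ T x (neg₁ B x) (πQ_neg₁ B x).symm = e₁ B (B.πQ T x) :=
  (exists_neg₁ B x).choose_spec.choose_spec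

/-- The fibre over a section of the second factor. -/
def Fib (T : C) (q : Q.obj.obj (op T)) : Type (u + 1) := {x : B.E.obj.obj (op T) // B.πQ T x = q}

variable {B}

noncomputable instance (q : Q.obj.obj (op T)) : AddCommGroup (Fib B T q) where
  add a b := ⟨B.add₁ T a.1 b.1 (a.2.trans b.2.symm), (B.πQ_add₁ _ _ _ _).trans a.2⟩
  zero := ⟨e₁ B q, πQ_e₁ B q⟩
  neg a := ⟨neg₁ B a.1, (πQ_neg₁ B a.1).trans a.2⟩
  add_assoc a b c := Subtype.ext (B.add₁_assoc T a.1 b.1 c.1 (a.2.trans b.2.symm) (b.2.trans c.2.symm))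
  zero_add a := Subtype.ext ((add₁_congr B (congrArg (e₁ B) a.2.symm) rfl _ (πQ_e₁ B _)).trans (e₁_add B a.1))
  add_zero a := Subtype.ext ((B.add₁_comm T _ _ _).trans
    ((add₁_congr B (congrArg (e₁ B) a.2.symm) rfl _ (πQ_e₁ B _)).trans (e₁_add B a.1)))
  nsmul := @nsmulRec _ ⟨⟨e₁ B q, πQ_e₁ B q⟩⟩
    ⟨fun a b => ⟨B.add₁ T a.1 b.1 (a.2.trans b.2.symm), (B.πQ_add₁ _ _ _ _).trans a.2⟩⟩
  zsmul := @zsmulRec _ ⟨⟨e₁ B q, πQ_e₁ B q⟩⟩
    ⟨fun a b => ⟨B.add₁ T a.1 b.1 (a.2.trans b.2.symm), (B.πQ_add₁ _ _ _ _).trans a.2⟩⟩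
    ⟨fun a => ⟨neg₁ B a.1, (πQ_neg₁ B a.1).trans a.2⟩⟩
    (@nsmulRec _ ⟨⟨e₁ B q, πQ_e₁ B q⟩⟩
    ⟨fun a b => ⟨B.add₁ T a.1 b.1 (a.2.trans b.2.symm), (B.πQ_add₁ _ _ _ _).trans a.2⟩⟩)
  neg_add_cancel a := Subtype.ext ((B.add₁_comm T _ _ _).trans
    ((add_neg₁ B a.1).trans (congrArg (e₁ B) a.2)))
  add_comm a b := Subtype.ext (B.add₁_comm T a.1 b.1 (a.2.trans b.2.symm))

theorem coe_add {q : Q.obj.obj (op T)} (a b : Fib B T q) :
    (a + b).1 = B.add₁ T a.1 b.1 (a.2.trans b.2.symm) := rfl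

theorem coe_zero {q : Q.obj.obj (op T)} : (0 : Fib B T q).1 = e₁ B q := rfl

variable (B)

/-- Restriction between fibres. -/
noncomputable def resF {T' : C} (f : T' ⟶ T) {q : Q.obj.obj (op T)} {q' : Q.obj.obj (op T')}
    (hq : Q.obj.map f.op q = q') : Fib B T q →+ Fib B T' q' :=
  AddMonoidHom.mk' (fun a => ⟨res B f a.1, ((B.πQ_map f a.1).trans (by rw [a.2])).trans hq⟩)
    fun a b => Subtype.ext (B.add₁_map f a.1 b.1 (a.2.trans b.2.symm))

theorem resF_val {T' : C} (f : T' ⟶ T) {q : Q.obj.obj (op T)} {q' : Q.obj.obj (op T')}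
    (hq : Q.obj.map f.op q = q') (a : Fib B T q) : (resF B f hq a).1 = res B f a.1 := rfl

/-- The group acting inside a fibre. -/
noncomputable def inc (q : Q.obj.obj (op T)) : G.obj.obj (op T) →+ Fib B T q :=
  AddMonoidHom.mk' (fun g => ⟨B.act T g (e₁ B q), (B.πQ_act _ _ _).trans (πQ_e₁ B q)⟩) fun g g' =>
    Subtype.ext ((congrArg (B.act T (g + g')) (isZero_e₁ B q).2.symm).trans
      (add₁_act₂ B g g' _ _ rfl ((B.πQ_act _ _ _).trans (B.πQ_act _ _ _).symm)).symm)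

theorem inc_val (q : Q.obj.obj (op T)) (g : G.obj.obj (op T)) :
    (inc B q g).1 = B.act T g (e₁ B q) := rfl

theorem inc_injective (q : Q.obj.obj (op T)) : Function.Injective (inc B q) :=
  fun _ _ h => act_inj B (congrArg Subtype.val h)

/-- The projection of a fibre. -/
noncomputable def prj (q : Q.obj.obj (op T)) : Fib B T q →+ P.obj.obj (op T) :=
  AddMonoidHom.mk' (fun a => B.πP T a.1) fun a b => B.πP_add₁ T a.1 b.1 (a.2.trans b.2.symm)

theorem inc_add (g : G.obj.obj (op T)) {q : Q.obj.obj (op T)} (a : Fib B T q) :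
    (inc B q g + a).1 = B.act T g a.1 := by
  rw [coe_add]
  simp only [inc_val]
  rw [B.add₁_act T g _ _ ((πQ_e₁ B q).trans a.2.symm)]
  exact congrArg (B.act T g) ((add₁_congr B (congrArg (e₁ B) a.2.symm) rfl _ (πQ_e₁ B _)).trans (e₁_add B a.1))

theorem exists_inc {q : Q.obj.obj (op T)} (a : Fib B T q) (h : prj B q a = 0) : ∃ g, inc B q g = a := by
  obtain ⟨g, hg⟩ := exists_act B (x := e₁ B q) (y := a.1) ((πP_e₁ B q).trans h.symm) ((πQ_e₁ B q).trans a.2.symm)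
  exact ⟨g, Subtype.ext hg⟩

theorem resF_inc {T' : C} (f : T' ⟶ T) {q : Q.obj.obj (op T)} {q' : Q.obj.obj (op T')}
    (hq : Q.obj.map f.op q = q') (g : G.obj.obj (op T)) :
    resF B f hq (inc B q g) = inc B q' (G.obj.map f.op g) := by
  subst hq
  exact Subtype.ext ((B.act_map f g _).trans (congrArg _ (res_e₁ B f q)))

end Groth.L07.BiextTriv
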