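import Groth.Agent.L07.BiextTriv.Fibre
import Groth.Agent.L27.FppfCmp.LocExact
import Groth.Prelude.Def_CGrpSh2
import Mathlib.Algebra.Homology.ShortComplex.Abelian

/-! The class in `𝓔xt¹(Q, G)` of the restrictions of a biextension, and partial splittings from
its vanishing. -/

set_option autoImplicit false
set_option backward.isDefEq.respectTransparency.types false
set_option backward.isDefEq.respectTransparency false

universe u

open CategoryTheory CategoryTheory.Limits Opposite AlgebraicGeometry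

noncomputable section

namespace Groth.L07.BiextTriv

open Groth.L27.FppfCmp (exact_iff_locally exists_kernel_sec)

variable {K : Precoverage Scheme.{u}} {S : Scheme.{u}}

universe v₁ v₂ u₁ u₂ in
/-- The first right derived functor on a resolution. -/
theorem rightDerived_one_iso {C : Type u₁} [Category.{v₁} C] [Abelian C] [HasInjectiveResolutions C]
    {D : Type u₂} [Category.{v₂} D] [Abelian D] (F : C ⥤ D) [F.Additive] {X : C}
    (R : InjectiveResolution X) (G : C ⥤ D) (e : G = F.rightDerived 1) :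
    Nonempty (G.obj X ≅ (ShortComplex.mk (F.map (R.cocomplex.d 0 1)) (F.map (R.cocomplex.d 1 2))
      (by rw [← F.map_comp, HomologicalComplex.d_comp_d, F.map_zero])).homology) := by
  subst e
  exact ⟨R.isoRightDerivedObj F 1 ≪≫ ShortComplex.homologyMapIso
    (((F.mapHomologicalComplex (ComplexShape.up ℕ)).obj R.cocomplex).isoSc' 0 1 2 (by simp) (by simp) ≪≫
      ShortComplex.isoMk (Iso.refl _) (Iso.refl _) (Iso.refl _)
        ((Category.id_comp _).trans (Category.comp_id _).symm)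
        ((Category.id_comp _).trans (Category.comp_id _).symm))⟩

/-- Sections over `T` as a functor. -/
abbrev secAt (T : Over S) : BigSite.Ab K S ⥤ AddCommGrpCat.{u + 1} :=
  sheafToPresheaf _ _ ⋙ (evaluation _ _).obj (op T)

/-- Homomorphisms out of a sheaf from elementwise data killed by a map, up to homology. -/
theorem exists_class (Sh : ShortComplex (BigSite.Ab K S)) (P : BigSite.Ab K S)
    (Rel : ∀ T : Over S, P.obj.obj (op T) → Sh.X₂.obj.obj (op T) → Prop)
    (hex : ∀ T p, ∃ θ, Rel T p θ)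
    (hg : ∀ T p θ, Rel T p θ → Sh.g.hom.app (op T) θ = 0)
    (hadd : ∀ T p p' θ θ' θ'', Rel T p θ → Rel T p' θ' → Rel T (p + p') θ'' →
      ∃ η, θ'' - θ - θ' = Sh.f.hom.app (op T) η)
    (hmap : ∀ (T T' : Over S) (a : T' ⟶ T) p θ θ', Rel T p θ → Rel T' (P.obj.map a.op p) θ' →
      ∃ η, θ' - Sh.X₂.obj.map a.op θ = Sh.f.hom.app (op T') η) :
    ∃ c : P ⟶ Sh.homology, c = 0 → ∀ T p θ, Rel T p θ →
      ∃ R ∈ QuotSh.J K S T, ∀ ⦃T' : Over S⦄ (a : T' ⟶ T), R a →
        ∃ η, Sh.f.hom.app (op T') η = Sh.X₂.obj.map a.op θ := by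
  have hinj : ∀ T : Over S, Function.Injective (Sh.iCycles.hom.app (op T)) := fun T =>
    (AddCommGrpCat.mono_iff_injective _).1 (inferInstanceAs (Mono ((secAt T).map Sh.iCycles)))
  have hlift : ∀ (T : Over S) (θ : Sh.X₂.obj.obj (op T)), Sh.g.hom.app (op T) θ = 0 →
      ∃ k : Sh.cycles.obj.obj (op T), Sh.iCycles.hom.app (op T) k = θ := by
    intro T θ hθ
    obtain ⟨k, hk⟩ := exists_kernel_sec Sh.g T θ hθ
    refine ⟨Sh.cyclesIsoKernel.inv.hom.app (op T) k, Eq.trans ?_ hk⟩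
    exact ConcreteCategory.congr_hom (congrArg (fun φ : kernel Sh.g ⟶ Sh.X₂ => φ.hom.app (op T))
      (show Sh.cyclesIsoKernel.inv ≫ Sh.iCycles = kernel.ι Sh.g by simp [ShortComplex.cyclesIsoKernel])) k
  choose θ hθ using hex
  choose k hk using fun T p => hlift T (θ T p) (hg T p (θ T p) (hθ T p))
  have hto : ∀ (T : Over S) η, Sh.iCycles.hom.app (op T) (Sh.toCycles.hom.app (op T) η) = Sh.f.hom.app (op T) η :=
    fun T η => ConcreteCategory.congr_hom
      (congrArg (fun φ : Sh.X₁ ⟶ Sh.X₂ => φ.hom.app (op T)) Sh.toCycles_i) η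
  have hπ : ∀ (T : Over S) η, Sh.homologyπ.hom.app (op T) (Sh.toCycles.hom.app (op T) η) = 0 :=
    fun T η => ConcreteCategory.congr_hom
      (congrArg (fun φ : Sh.X₁ ⟶ Sh.homology => φ.hom.app (op T)) Sh.toCycles_comp_homologyπ) η
  let c₀ : ∀ T : Over S, P.obj.obj (op T) →+ Sh.homology.obj.obj (op T) := fun T =>
    AddMonoidHom.mk' (fun p => Sh.homologyπ.hom.app (op T) (k T p)) fun p p' => by
      obtain ⟨η, hη⟩ := hadd T p p' _ _ _ (hθ T p) (hθ T p') (hθ T (p + p'))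
      have : k T (p + p') = Sh.toCycles.hom.app (op T) η + (k T p + k T p') := hinj T (by
        rw [map_add, map_add, hto, hk, hk, hk, ← hη]
        abel)
      rw [this, map_add, map_add, hπ, zero_add]
  refine ⟨⟨{ app := fun T => AddCommGrpCat.ofHom (c₀ T.unop), naturality := fun T T' a => ?_ }⟩, ?_⟩
  · refine AddCommGrpCat.ext fun (p : P.obj.obj (op T.unop)) => ?_
    show Sh.homologyπ.hom.app (op T'.unop) (k T'.unop (P.obj.map a.unop.op p)) =
      Sh.homology.obj.map a.unop.op (Sh.homologyπ.hom.app (op T.unop) (k T.unop p))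
    obtain ⟨η, hη⟩ := hmap T.unop T'.unop a.unop p _ _ (hθ T.unop p) (hθ T'.unop _)
    have : k T'.unop (P.obj.map a.unop.op p) =
        Sh.toCycles.hom.app (op T'.unop) η + Sh.cycles.obj.map a.unop.op (k T.unop p) := hinj _ (by
      rw [map_add, hto, hk, NatTrans.naturality_apply Sh.iCycles.hom a.unop.op, hk, ← hη, sub_add_cancel])
    rw [this, map_add, hπ, zero_add]
    exact NatTrans.naturality_apply Sh.homologyπ.hom a.unop.op (k T.unop p)
  · intro h0 T p θ' hθ'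
    have hz : Sh.homologyπ.hom.app (op T) (k T p) = 0 :=
      ConcreteCategory.congr_hom (congrArg (fun φ : P ⟶ Sh.homology => φ.hom.app (op T)) h0) p
    have hex' : (ShortComplex.mk Sh.toCycles Sh.homologyπ Sh.toCycles_comp_homologyπ).Exact :=
      ShortComplex.exact_of_g_is_cokernel _ Sh.homologyIsCokernel
    obtain ⟨R, hR, hR'⟩ := (exact_iff_locally _).1 hex' T (k T p) hz
    obtain ⟨η₀, hη₀⟩ := hadd T p 0 θ' (θ T 0) (θ T p) hθ' (hθ T 0) (by rw [add_zero]; exact hθ T p)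
    obtain ⟨η₁, hη₁⟩ := hadd T 0 0 (θ T 0) (θ T 0) (θ T 0) (hθ T 0) (hθ T 0) (by rw [add_zero]; exact hθ T 0)
    refine ⟨R, hR, fun T' a ha => ?_⟩
    obtain ⟨η, hη⟩ := hR' a ha
    refine ⟨η - Sh.X₁.obj.map a.op (η₀ - η₁), ?_⟩
    rw [map_sub, NatTrans.naturality_apply Sh.f.hom a.op, map_sub, ← hη₀, ← hη₁, ← hto, hη,
      NatTrans.naturality_apply Sh.iCycles.hom a.op, hk]
    simp only [map_sub]
    abel

/-- A partial splitting of `B` over a section of the first factor. -/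
def IsPartSplit {P Q G : BigSite.Ab K S} (B : Biext (QuotSh.J K S) P Q G) {T : Over S}
    (p : P.obj.obj (op T))
    (s : ∀ (U : Over S), (U ⟶ T) → ∀ q : Q.obj.obj (op U), B.E.obj.obj (op U)) : Prop :=
  (∀ U f q, B.πP U (s U f q) = P.obj.map f.op p ∧ B.πQ U (s U f q) = q) ∧
  (∀ (U V : Over S) (f : U ⟶ T) (g : V ⟶ U) q, res B g (s U f q) = s V (g ≫ f) (Q.obj.map g.op q)) ∧
  (∀ (U : Over S) (f : U ⟶ T) (q q' : Q.obj.obj (op U))
    (h : B.πP U (s U f q) = B.πP U (s U f q')), s U f (q + q') = B.add₂ U (s U f q) (s U f q') h)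

variable {P Q G : BigSite.Ab K S} (B : Biext (QuotSh.J K S) P Q G) (R : InjectiveResolution G)

/-- The inclusion into the first injective. -/
abbrev jR : G ⟶ R.cocomplex.X 0 := R.ι.f 0

theorem d_jR {U : Over S} (g : G.obj.obj (op U)) :
    (R.cocomplex.d 0 1).hom.app (op U) ((jR R).hom.app (op U) g) = 0 :=
  ConcreteCategory.congr_hom
    (congrArg (fun φ : G ⟶ R.cocomplex.X 1 => φ.hom.app (op U)) R.ι_f_zero_comp_complex_d) g

theorem jR_injective (U : Over S) : Function.Injective ((jR R).hom.app (op U)) :=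
  (AddCommGrpCat.mono_iff_injective _).1 (inferInstanceAs (Mono ((secAt U).map (R.ι.f 0))))

theorem exists_jR {U : Over S} (x : (R.cocomplex.X 0).obj.obj (op U))
    (hx : (R.cocomplex.d 0 1).hom.app (op U) x = 0) : ∃ g, (jR R).hom.app (op U) g = x := by
  let Sι : ShortComplex (BigSite.Ab K S) :=
    ShortComplex.mk (R.ι.f 0) (R.cocomplex.d 0 1) R.ι_f_zero_comp_complex_d
  have hS : Sι.Exact := R.exact₀
  have : Mono Sι.f := inferInstanceAs (Mono (R.ι.f 0))
  obtain ⟨k, hk⟩ := exists_kernel_sec Sι.g U x hx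
  refine ⟨(hS.lift (kernel.ι Sι.g) (kernel.condition _)).hom.app (op U) k, Eq.trans ?_ hk⟩
  exact ConcreteCategory.congr_hom
    (congrArg (fun φ : kernel Sι.g ⟶ R.cocomplex.X 0 => φ.hom.app (op U))
      (hS.lift_f (kernel.ι Sι.g) (kernel.condition _))) k

/-- `θ` is the map of `Q` induced by a trivialisation over `p`. -/
def IsCls (T : Over S) (p : P.obj.obj (op T))
    (θ : (HomSh.homSh (QuotSh.J K S) Q (R.cocomplex.X 1)).obj.obj (op T)) : Prop :=
  ∃ t : Trv B (jR R) p, ∀ (U : Over S) (f : U ⟶ T) (x : B.E.obj.obj (op U)) (h : B.πP U x = P.obj.map f.op p),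
    ((HomSh.sectEquiv _ Q (R.cocomplex.X 1) T θ).hom.app (op (Over.mk f))) (B.πQ U x) =
      (R.cocomplex.d 0 1).hom.app (op U) (t.val f x h)

variable {B R}

theorem mono_of_injective {A N : BigSite.Ab K S} (g : A ⟶ N)
    (h : ∀ T : Over S, Function.Injective (g.hom.app (op T))) : Mono g := by
  have : ∀ T, Mono (g.hom.app T) := fun T => (AddCommGrpCat.mono_iff_injective _).2 (h T.unop)
  exact Functor.mono_of_mono_map (sheafToPresheaf _ AddCommGrpCat.{u + 1}) (NatTrans.mono_of_mono_app g.hom)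

theorem ext_hom {A N : BigSite.Ab K S} {T : Over S} {θ θ' : A.over T ⟶ N.over T}
    (h : ∀ (U : Over S) (f : U ⟶ T) (a : A.obj.obj (op U)),
      θ.hom.app (op (Over.mk f)) a = θ'.hom.app (op (Over.mk f)) a) : θ = θ' :=
  Sheaf.hom_ext (NatTrans.ext (funext fun V => AddCommGrpCat.ext fun a => h V.unop.left V.unop.hom a))

theorem eq_of_lifts {N : BigSite.Ab K S} {T : Over S} (p : P.obj.obj (op T))
    {θ θ' : Q.over T ⟶ N.over T}
    (h : ∀ (U : Over S) (f : U ⟶ T) (x : B.E.obj.obj (op U)), B.πP U x = P.obj.map f.op p →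
      θ.hom.app (op (Over.mk f)) (B.πQ U x) = θ'.hom.app (op (Over.mk f)) (B.πQ U x)) : θ = θ' := by
  refine ext_hom fun U f q => ?_
  obtain ⟨W, hW, hx⟩ := B.locallySurjective U (P.obj.map f.op p) q
  refine eq_of_locally N hW _ _ fun V g hg => ?_
  obtain ⟨x, hp, hq⟩ := hx g hg
  rw [map_map] at hp
  have n : ∀ φ : Q.over T ⟶ N.over T, N.obj.map g.op (φ.hom.app (op (Over.mk f)) q) =
      φ.hom.app (op (Over.mk (g ≫ f))) (Q.obj.map g.op q) := fun φ =>
    (NatTrans.naturality_apply φ.hom (Over.homMk g : Over.mk (g ≫ f) ⟶ Over.mk f).op q).symm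
  rw [n, n, ← hq]
  exact h V (g ≫ f) x hp

/-- Descending a function on lifts to `Q`. -/
theorem exists_desc {N : BigSite.Ab K S} {T : Over S} (p : P.obj.obj (op T))
    (ψ : ∀ (U : Over S) (f : U ⟶ T) (x : B.E.obj.obj (op U)), B.πP U x = P.obj.map f.op p → N.obj.obj (op U))
    (hmap : ∀ (U V : Over S) (f : U ⟶ T) (g : V ⟶ U) x h h', N.obj.map g.op (ψ U f x h) = ψ V (g ≫ f) (res B g x) h')
    (hadd : ∀ (U : Over S) (f : U ⟶ T) x y (hx : B.πP U x = P.obj.map f.op p) (hy : B.πP U y = P.obj.map f.op p)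
      (h), ψ U f (B.add₂ U x y (hx.trans hy.symm)) h = ψ U f x hx + ψ U f y hy)
    (hact : ∀ (U : Over S) (f : U ⟶ T) g x (hx : B.πP U x = P.obj.map f.op p) (h),
      ψ U f (B.act U g x) h = ψ U f x hx) :
    ∃ η : Q.over T ⟶ N.over T, ∀ (U : Over S) (f : U ⟶ T) (x : B.E.obj.obj (op U))
      (h : B.πP U x = P.obj.map f.op p), η.hom.app (op (Over.mk f)) (B.πQ U x) = ψ U f x h := by
  refine Exists.elim (exists_hom_of_locally (J := QuotSh.J K S) (T := T) (A := Q) (N := N)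
    (fun {U} f q b => ∃ (x : B.E.obj.obj (op U)) (h : B.πP U x = P.obj.map f.op p),
      B.πQ U x = q ∧ ψ U f x h = b) ?_ ?_ ?_ ?_) fun η hη => ?_
  rotate_left 4
  · exact ⟨η, fun U f x h => hη f _ _ ⟨x, h, rfl, rfl⟩⟩
  · rintro U V f g _ _ ⟨x, h, rfl, rfl⟩
    exact ⟨res B g x, by rw [B.πP_map, h, map_map], B.πQ_map g x, (hmap U V f g x h _).symm⟩
  · rintro U f q _ _ ⟨x, h, hq, rfl⟩ ⟨y, h', hq', rfl⟩
    obtain ⟨g, rfl⟩ := exists_act B (h.trans h'.symm) (hq.trans hq'.symm)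
    exact (hact U f g x h _).symm
  · rintro U f _ _ _ _ ⟨x, h, rfl, rfl⟩ ⟨y, h', rfl, rfl⟩
    exact ⟨B.add₂ U x y (h.trans h'.symm), (B.πP_add₂ _ _ _ _).trans h, B.πQ_add₂ _ _ _ _, hadd U f x y h h' _⟩
  · intro U f q
    obtain ⟨W, hW, hx⟩ := B.locallySurjective U (P.obj.map f.op p) q
    refine ⟨W, hW, fun V g hg => ?_⟩
    obtain ⟨x, hp, hq⟩ := hx g hg
    rw [map_map] at hp
    exact ⟨_, x, hp, hq, rfl⟩

variable (B R)

theorem exists_isCls (T : Over S) (p : P.obj.obj (op T)) : ∃ θ, IsCls B R T p θ := by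
  have := Groth.L08.DoubleDual.injective_overPullback (QuotSh.J K S) T (R.cocomplex.X 0)
  obtain ⟨t⟩ := exists_trv B (jR R) p
  refine Exists.elim (exists_desc (B := B) p (N := R.cocomplex.X 1)
    (fun U f x h => (R.cocomplex.d 0 1).hom.app (op U) (t.val f x h)) ?_ ?_ ?_) fun θ hθ => ?_
  rotate_left 3
  · exact ⟨θ, t, hθ⟩
  · intro U V f g x h h'
    rw [← NatTrans.naturality_apply, t.val_map f g x h h']
  · intro U f x y hx hy h
    rw [← map_add]; exact congrArg _ (t.val_add f x y hx hy)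
  · intro U f g x hx h
    rw [t.congr rfl rfl h ((B.πP_act _ _ _).trans hx), t.val_act, map_add, d_jR, zero_add]

variable {B R}

theorem IsCls.add {T : Over S} {p p' : P.obj.obj (op T)}
    {θ θ' θ'' : (HomSh.homSh (QuotSh.J K S) Q (R.cocomplex.X 1)).obj.obj (op T)}
    (h : IsCls B R T p θ) (h' : IsCls B R T p' θ') (h'' : IsCls B R T (p + p') θ'') :
    ∃ η, θ'' - θ - θ' =
      (HomSh.homShMap (QuotSh.J K S) (𝟙 Q) (R.cocomplex.d 0 1)).hom.app (op T) η := by
  obtain ⟨t, ht⟩ := h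
  obtain ⟨t', ht'⟩ := h'
  obtain ⟨t'', ht''⟩ := h''
  refine Exists.elim (exists_hom_of_locally (J := QuotSh.J K S) (T := T) (A := Q) (N := R.cocomplex.X 0)
    (fun {U} f q b => ∃ (x x' : B.E.obj.obj (op U)) (hx : B.πP U x = P.obj.map f.op p)
      (hx' : B.πP U x' = P.obj.map f.op p') (hq : B.πQ U x = q) (hq' : B.πQ U x' = q),
      t''.val f (B.add₁ U x x' (hq.trans hq'.symm)) (by rw [B.πP_add₁, hx, hx', map_add]) -
        t.val f x hx - t'.val f x' hx' = b) ?_ ?_ ?_ ?_) fun η hη => ?_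
  rotate_left 4
  · refine ⟨η, ?_⟩
    refine ext_hom fun U f q => ?_
    obtain ⟨W, hW, hx⟩ := B.locallySurjective U (P.obj.map f.op p) q
    obtain ⟨W', hW', hx'⟩ := B.locallySurjective U (P.obj.map f.op p') q
    refine eq_of_locally (R.cocomplex.X 1) ((QuotSh.J K S).intersection_covering hW hW') _ _ fun V g hg => ?_
    obtain ⟨x, hp, hq⟩ := hx g hg.1
    obtain ⟨x', hp', hq'⟩ := hx' g hg.2
    rw [map_map] at hp hp'
    have n : ∀ φ : Q.over T ⟶ (R.cocomplex.X 1).over T,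
        (R.cocomplex.X 1).obj.map g.op (φ.hom.app (op (Over.mk f)) q) =
          φ.hom.app (op (Over.mk (g ≫ f))) (Q.obj.map g.op q) := fun φ =>
      (NatTrans.naturality_apply φ.hom (Over.homMk g : Over.mk (g ≫ f) ⟶ Over.mk f).op q).symm
    have hP'' : B.πP V (B.add₁ V x x' (hq.trans hq'.symm)) = P.obj.map (g ≫ f).op (p + p') := by
      rw [B.πP_add₁, hp, hp', map_add]
    have e₁ := ht V (g ≫ f) x hp
    have e₂ := ht' V (g ≫ f) x' hp'
    have e₃ := ht'' V (g ≫ f) (B.add₁ V x x' (hq.trans hq'.symm)) hP''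
    replace e₁ := (congrArg _ hq).symm.trans e₁
    replace e₂ := (congrArg _ hq').symm.trans e₂
    replace e₃ := (congrArg _ ((B.πQ_add₁ V x x' (hq.trans hq'.symm)).trans hq)).symm.trans e₃
    have e₄ := hη (g ≫ f) _ _ ⟨x, x', hp, hp', hq, hq', rfl⟩
    rw [n, n]
    refine Eq.trans ?_ (congrArg ((R.cocomplex.d 0 1).hom.app (op V)) e₄).symm
    rw [map_sub, map_sub, ← e₁, ← e₂, ← e₃]
    rfl
  · rintro U V f g _ _ ⟨x, x', hx, hx', hq, hq', rfl⟩
    refine ⟨res B g x, res B g x', by rw [B.πP_map, hx, map_map], by rw [B.πP_map, hx', map_map],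
      by rw [B.πQ_map, hq], by rw [B.πQ_map, hq'], ?_⟩
    rw [map_sub, map_sub, t''.val_map f g _ _ (by rw [B.πP_map, B.πP_add₁, hx, hx', ← map_add, map_map]),
      t.val_map f g x hx (by rw [B.πP_map, hx, map_map]),
      t'.val_map f g x' hx' (by rw [B.πP_map, hx', map_map])]
    congr 2
    exact t''.congr rfl (B.add₁_map g x x' (hq.trans hq'.symm)).symm _ _
  · rintro U f q _ _ ⟨x, x', hx, hx', hq, hq', rfl⟩ ⟨y, y', hy, hy', hr, hr', rfl⟩
    obtain ⟨g, rfl⟩ := exists_act B (hx.trans hy.symm) (hq.trans hr.symm)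
    obtain ⟨g', rfl⟩ := exists_act B (hx'.trans hy'.symm) (hq'.trans hr'.symm)
    have hsum : B.πP U (B.add₁ U x x' (hq.trans hq'.symm)) = P.obj.map f.op (p + p') := by
      rw [B.πP_add₁, hx, hx', map_add]
    rw [t.val_act f g x hx, t'.val_act f g' x' hx',
      t''.congr rfl (add₁_act₂ B g g' x x' (hq.trans hq'.symm) (hr.trans hr'.symm)) _
        ((B.πP_act _ _ _).trans hsum), t''.val_act f (g + g') _ hsum, map_add ((jR R).hom.app (op U)).hom g g']
    abel
  · rintro U f _ _ _ _ ⟨x, x', hx, hx', hq, hq', rfl⟩ ⟨y, y', hy, hy', hr, hr', rfl⟩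
    have h1 : B.πP U (B.add₁ U x x' (hq.trans hq'.symm)) = P.obj.map f.op (p + p') := by
      rw [B.πP_add₁, hx, hx', map_add]
    have h2 : B.πP U (B.add₁ U y y' (hr.trans hr'.symm)) = P.obj.map f.op (p + p') := by
      rw [B.πP_add₁, hy, hy', map_add]
    refine ⟨B.add₂ U x y (hx.trans hy.symm), B.add₂ U x' y' (hx'.trans hy'.symm),
      (B.πP_add₂ _ _ _ _).trans hx, (B.πP_add₂ _ _ _ _).trans hx',
      (B.πQ_add₂ _ _ _ _).trans (by rw [hq, hr]), (B.πQ_add₂ _ _ _ _).trans (by rw [hq', hr']), ?_⟩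
    rw [t.val_add f x y hx hy, t'.val_add f x' y' hx' hy',
      t''.congr rfl (B.compat U x y x' y' (hx.trans hy.symm) (hx'.trans hy'.symm) (hq.trans hq'.symm)
        (hr.trans hr'.symm)) _ ((B.πP_add₂ _ _ _ _).trans h1), t''.val_add f _ _ h1 h2]
    abel
  · intro U f q
    obtain ⟨W, hW, hx⟩ := B.locallySurjective U (P.obj.map f.op p) q
    obtain ⟨W', hW', hx'⟩ := B.locallySurjective U (P.obj.map f.op p') q
    refine ⟨W ⊓ W', (QuotSh.J K S).intersection_covering hW hW', fun V g hg => ?_⟩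
    obtain ⟨x, hp, hq⟩ := hx g hg.1
    obtain ⟨x', hp', hq'⟩ := hx' g hg.2
    rw [map_map] at hp hp'
    exact ⟨_, x, x', hp, hp', hq, hq', rfl⟩

theorem IsCls.map {T T' : Over S} (a : T' ⟶ T) {p : P.obj.obj (op T)}
    {θ : (HomSh.homSh (QuotSh.J K S) Q (R.cocomplex.X 1)).obj.obj (op T)}
    {θ' : (HomSh.homSh (QuotSh.J K S) Q (R.cocomplex.X 1)).obj.obj (op T')}
    (h : IsCls B R T p θ) (h' : IsCls B R T' (P.obj.map a.op p) θ') :
    ∃ η, θ' - (HomSh.homSh (QuotSh.J K S) Q (R.cocomplex.X 1)).obj.map a.op θ =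
      (HomSh.homShMap (QuotSh.J K S) (𝟙 Q) (R.cocomplex.d 0 1)).hom.app (op T') η := by
  obtain ⟨t, ht⟩ := h
  obtain ⟨t', ht'⟩ := h'
  let u := t.restr a
  refine Exists.elim (exists_desc (B := B) (P.obj.map a.op p) (N := R.cocomplex.X 0)
    (fun U f x h => t'.val f x h - u.val f x h) ?_ ?_ ?_) fun η hη => ?_
  rotate_left 3
  · refine ⟨η, eq_of_lifts (B := B) (P.obj.map a.op p) fun U f x hx => ?_⟩
    refine Eq.trans ?_ (congrArg ((R.cocomplex.d 0 1).hom.app (op U)) (hη U f x hx)).symm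
    rw [map_sub, ← ht' U f x hx]
    exact congrArg₂ (· - ·) rfl (ht U (f ≫ a) x _)
  · intro U V f g x h h'
    rw [map_sub, t'.val_map f g x h h', u.val_map f g x h h']
  · intro U f x y hx hy h
    rw [t'.congr rfl rfl h ((B.πP_add₂ _ _ _ _).trans hx), t'.val_add f x y hx hy,
      u.congr rfl rfl h ((B.πP_add₂ _ _ _ _).trans hx), u.val_add f x y hx hy]
    abel
  · intro U f g x hx h
    rw [t'.congr rfl rfl h ((B.πP_act _ _ _).trans hx), t'.val_act f g x hx,
      u.congr rfl rfl h ((B.πP_act _ _ _).trans hx), u.val_act f g x hx]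
    abel

/-- A trivialisation with a bounding morphism gives a partial splitting. -/
theorem exists_partSplit {T : Over S} {p : P.obj.obj (op T)} (t : Trv B (jR R) p)
    (η : Q.over T ⟶ (R.cocomplex.X 0).over T)
    (hη : ∀ (U : Over S) (f : U ⟶ T) (x : B.E.obj.obj (op U)) (h : B.πP U x = P.obj.map f.op p),
      (R.cocomplex.d 0 1).hom.app (op U) (η.hom.app (op (Over.mk f)) (B.πQ U x)) =
        (R.cocomplex.d 0 1).hom.app (op U) (t.val f x h)) :
    ∃ s, IsPartSplit B p s := by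
  let Good : ∀ (U : Over S), (U ⟶ T) → Q.obj.obj (op U) → B.E.obj.obj (op U) → Prop := fun U f q x =>
    ∃ h : B.πP U x = P.obj.map f.op p, B.πQ U x = q ∧ t.val f x h = η.hom.app (op (Over.mk f)) q
  have gmap : ∀ (U V : Over S) (f : U ⟶ T) (g : V ⟶ U) q x, Good U f q x →
      Good V (g ≫ f) (Q.obj.map g.op q) (res B g x) := by
    rintro U V f g q x ⟨h, rfl, e⟩
    refine ⟨by rw [B.πP_map, h, map_map], B.πQ_map g x, ?_⟩
    rw [← t.val_map f g x h (by rw [B.πP_map, h, map_map]), e]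
    exact (NatTrans.naturality_apply η.hom (Over.homMk g : Over.mk (g ≫ f) ⟶ Over.mk f).op (B.πQ U x)).symm
  have guniq : ∀ (U : Over S) (f : U ⟶ T) q x x', Good U f q x → Good U f q x' → x = x' := by
    rintro U f q x x' ⟨h, hq, e⟩ ⟨h', hq', e'⟩
    obtain ⟨g, rfl⟩ := exists_act B (h.trans h'.symm) (hq.trans hq'.symm)
    rw [t.congr rfl rfl h' ((B.πP_act _ _ _).trans h), t.val_act f g x h, ← e, add_eq_right] at e'
    rw [jR_injective R U (e'.trans (map_zero _).symm), B.zero_act]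
  have gex : ∀ (U : Over S) (f : U ⟶ T) q, ∃ x, Good U f q x := by
    intro U f q
    obtain ⟨W, hW, hx⟩ := B.locallySurjective U (P.obj.map f.op p) q
    have hloc : ∀ ⦃V : Over S⦄ (g : V ⟶ U), W g → ∃ x, Good V (g ≫ f) (Q.obj.map g.op q) x := by
      intro V g hg
      obtain ⟨x, hp, hq⟩ := hx g hg
      rw [map_map] at hp
      let w : (R.cocomplex.X 0).obj.obj (op V) := η.hom.app (op (Over.mk (g ≫ f))) (B.πQ V x)
      have hw : (R.cocomplex.d 0 1).hom.app (op V) w =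
          (R.cocomplex.d 0 1).hom.app (op V) (t.val (g ≫ f) x hp) := hη V (g ≫ f) x hp
      obtain ⟨b, hb⟩ := exists_jR R (w - t.val (g ≫ f) x hp) (by rw [map_sub, hw, sub_self])
      refine ⟨B.act V b x, (B.πP_act _ _ _).trans hp, (B.πQ_act _ _ _).trans hq, ?_⟩
      rw [t.val_act (g ≫ f) b x hp, hb, sub_add_cancel]
      exact congrArg _ hq
    choose x hgood using hloc
    let fam : Presieve.FamilyOfElements B.E.obj W.arrows := fun V g hg => x g hg
    have hfam : fam.Compatible := by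
      intro Y₁ Y₂ Z g₁ g₂ r₁ r₂ h₁ h₂ hw
      have e₁ := gmap _ Z _ g₁ _ _ (hgood r₁ h₁)
      have e₂ := gmap _ Z _ g₂ _ _ (hgood r₂ h₂)
      rw [map_map, ← Category.assoc] at e₁ e₂
      rw [hw] at e₁
      exact guniq _ _ _ _ _ e₁ e₂
    let a := (isSheafForE B hW).amalgamate fam hfam
    have ha : ∀ ⦃V : Over S⦄ (g : V ⟶ U) (hg : W g), res B g a = x g hg :=
      fun V g hg => (isSheafForE B hW).valid_glue hfam g hg
    have hP : B.πP U a = P.obj.map f.op p := eq_of_locally P hW _ _ fun V g hg => by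
      rw [← B.πP_map, map_map]
      exact (congrArg (B.πP V) (ha g hg)).trans (hgood g hg).choose
    refine ⟨a, hP, eq_of_locally Q hW _ _ fun V g hg => ?_, eq_of_locally _ hW _ _ fun V g hg => ?_⟩
    · rw [← B.πQ_map]
      exact (congrArg (B.πQ V) (ha g hg)).trans (hgood g hg).choose_spec.1
    · rw [t.val_map f g a hP (by rw [B.πP_map, hP, map_map]),
        t.congr rfl (ha g hg) _ (hgood g hg).choose, (hgood g hg).choose_spec.2]
      exact NatTrans.naturality_apply η.hom (Over.homMk g : Over.mk (g ≫ f) ⟶ Over.mk f).op q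
  choose s hs using gex
  refine ⟨s, fun U f q => ⟨(hs U f q).choose, (hs U f q).choose_spec.1⟩,
    fun U V f g q => guniq _ _ _ _ _ (gmap _ _ _ _ _ _ (hs U f q)) (hs V _ _), fun U f q q' h => ?_⟩
  obtain ⟨hp, hq, e⟩ := hs U f q
  obtain ⟨hp', hq', e'⟩ := hs U f q'
  refine guniq _ _ _ _ _ (hs U f (q + q')) ⟨(B.πP_add₂ _ _ _ _).trans hp,
    (B.πQ_add₂ _ _ _ _).trans (by rw [hq, hq']), ?_⟩
  rw [t.val_add f _ _ hp hp', e, e']
  exact (map_add _ q q').symm

/-- The complex computing the first Ext sheaf on a resolution. -/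
def extCx : ShortComplex (BigSite.Ab K S) :=
  ShortComplex.mk ((HomSh.homShFunctor (QuotSh.J K S) Q).map (R.cocomplex.d 0 1))
    ((HomSh.homShFunctor (QuotSh.J K S) Q).map (R.cocomplex.d 1 2))
    (by rw [← Functor.map_comp, HomologicalComplex.d_comp_d, Functor.map_zero])

theorem extCx_iso (R : InjectiveResolution G) :
    Nonempty ((HomSh.extSh (QuotSh.J K S) Q 1).obj G ≅ (extCx (Q := Q) (R := R)).homology) :=
  rightDerived_one_iso (HomSh.homShFunctor (QuotSh.J K S) Q) R (HomSh.extSh (QuotSh.J K S) Q 1)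
    (HomSh.extSh_def (QuotSh.J K S) Q 1)

theorem IsCls.g_eq_zero {T : Over S} {p : P.obj.obj (op T)}
    {θ : (HomSh.homSh (QuotSh.J K S) Q (R.cocomplex.X 1)).obj.obj (op T)} (h : IsCls B R T p θ) :
    (HomSh.homShMap (QuotSh.J K S) (𝟙 Q) (R.cocomplex.d 1 2)).hom.app (op T) θ = 0 := by
  obtain ⟨t, ht⟩ := h
  refine eq_of_lifts (B := B) p fun U f x h => ?_
  refine Eq.trans (congrArg ((R.cocomplex.d 1 2).hom.app (op U)) (ht U f x h)) ?_
  exact ConcreteCategory.congr_hom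
    (congrArg (fun φ : R.cocomplex.X 0 ⟶ R.cocomplex.X 2 => φ.hom.app (op U))
      (R.cocomplex.d_comp_d 0 1 2)) (t.val f x h)

theorem homShMap_apply {A B' : BigSite.Ab K S} (d : A ⟶ B') {T U : Over S} (f : U ⟶ T)
    (η : (HomSh.homSh (QuotSh.J K S) Q A).obj.obj (op T)) (q : Q.obj.obj (op U)) :
    (HomSh.sectEquiv _ Q B' T ((HomSh.homShMap (QuotSh.J K S) (𝟙 Q) d).hom.app (op T) η)).hom.app
        (op (Over.mk f)) q =
      d.hom.app (op U) ((HomSh.sectEquiv _ Q A T η).hom.app (op (Over.mk f)) q) := rfl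

theorem homSh_map_apply {A : BigSite.Ab K S} {T T' U : Over S} (a : T' ⟶ T) (f : U ⟶ T')
    (θ : (HomSh.homSh (QuotSh.J K S) Q A).obj.obj (op T)) (q : Q.obj.obj (op U)) :
    (HomSh.sectEquiv _ Q A T' ((HomSh.homSh (QuotSh.J K S) Q A).obj.map a.op θ)).hom.app
        (op (Over.mk f)) q =
      (HomSh.sectEquiv _ Q A T θ).hom.app (op (Over.mk (f ≫ a))) q := rfl

/-- If the first Ext sheaf receives no non-zero morphism from `P`, every section of `P` lifts locally
to a partial splitting. -/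
theorem exists_partSplit_locally
    (hP : ∀ φ : P ⟶ (HomSh.extSh (QuotSh.J K S) Q 1).obj G, φ = 0)
    (T : Over S) (p : P.obj.obj (op T)) :
    ∃ W ∈ QuotSh.J K S T, ∀ ⦃T' : Over S⦄ (a : T' ⟶ T), W a →
      ∃ s, IsPartSplit B (P.obj.map a.op p) s := by
  obtain ⟨R⟩ := HasInjectiveResolution.out (Z := G)
  obtain ⟨e⟩ := extCx_iso (Q := Q) R
  obtain ⟨c, hc⟩ := exists_class (extCx (Q := Q) (R := R)) P (fun T p θ => IsCls B R T p θ)
    (exists_isCls B R) (fun T p θ h => h.g_eq_zero)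
    (fun T p p' θ θ' θ'' h h' h'' => h.add h' h'') (fun T T' a p θ θ' h h' => h.map a h')
  have hc0 : c = 0 := by
    rw [← cancel_mono e.inv, zero_comp]
    exact hP _
  obtain ⟨θ, hθ⟩ := exists_isCls B R T p
  obtain ⟨W, hW, hloc⟩ := hc hc0 T p θ hθ
  refine ⟨W, hW, fun T' a ha => ?_⟩
  obtain ⟨η, hη⟩ := hloc a ha
  obtain ⟨t, ht⟩ := hθ
  refine exists_partSplit (t.restr a) (HomSh.sectEquiv _ Q _ T' η) fun U f x h => ?_
  refine (homShMap_apply (R.cocomplex.d 0 1) f η _).symm.trans ?_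
  refine Eq.trans ?_ (ht U (f ≫ a) x (h.trans (map_map P a f p)))
  refine Eq.trans ?_ (homSh_map_apply a f θ _)
  exact congrArg (fun z => (HomSh.sectEquiv _ Q (R.cocomplex.X 1) T' z).hom.app (op (Over.mk f)) (B.πQ U x)) hη

end Groth.L07.BiextTriv
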