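import Groth.Agent.L07.BiextTriv.Law
import Groth.Agent.L08.DoubleDual.Slice
import Mathlib.CategoryTheory.Sites.SheafHom
import Mathlib.CategoryTheory.Functor.ReflectsIso.Basic

/-! The fibre extensions of a biextension, as sheaves on slices, and their trivialisations into
injective sheaves. -/

set_option autoImplicit false
set_option backward.isDefEq.respectTransparency.types false

universe u

open CategoryTheory CategoryTheory.Limits Opposite

noncomputable section

namespace Groth.L07.BiextTriv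

variable {C : Type (u + 1)} [Category.{u} C] {J : GrothendieckTopology C}
  {P Q G : Sheaf J AddCommGrpCat.{u + 1}} (B : Biext J P Q G) {T : C} (q : Q.obj.obj (op T))

/-- The presheaf of fibres over `q`. -/
def fibPre : (Over T)ᵒᵖ ⥤ AddCommGrpCat.{u + 1} where
  obj U := AddCommGrpCat.of (Fib B U.unop.left (Q.obj.map U.unop.hom.op q))
  map {U V} f := AddCommGrpCat.ofHom (resF B f.unop.left (by rw [map_map, Over.w]))
  map_id U := AddCommGrpCat.ext fun a => Subtype.ext (by
    show B.E.obj.map (𝟙 U.unop.left).op a.1 = a.1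
    rw [op_id, B.E.obj.map_id]; rfl)
  map_comp f g := AddCommGrpCat.ext fun a => Subtype.ext ((res_res B f.unop.left g.unop.left a.1).symm)

theorem isSheaf_fibPre : Presheaf.IsSheaf (J.over T) (fibPre B q) := by
  apply Presheaf.isSheaf_of_isSheaf_comp (J.over T) (fibPre B q) (forget AddCommGrpCat.{u + 1})
  rw [isSheaf_iff_isSheaf_of_type]
  intro U R hR
  have hR' : Sieve.overEquiv U R ∈ J U.left := hR
  intro x hx
  have key : ∀ {Z : C} (g : Z ⟶ U.left), Sieve.overEquiv U R g →
      R (Over.homMk g : Over.mk (g ≫ U.hom) ⟶ U) := fun g hg => (Sieve.overEquiv_iff R g).1 hg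
  let fam : Presieve.FamilyOfElements B.E.obj (Sieve.overEquiv U R).arrows :=
    fun Z g hg => (x _ (key g hg)).1
  have hfam : fam.Compatible := by
    intro Y₁ Y₂ Z g₁ g₂ r₁ r₂ h₁ h₂ hw
    have := hx (Over.homMk g₁ (by simp) : Over.mk ((g₁ ≫ r₁) ≫ U.hom) ⟶ Over.mk (r₁ ≫ U.hom))
      (Over.homMk g₂ (by simp [reassoc_of% hw]) : Over.mk ((g₁ ≫ r₁) ≫ U.hom) ⟶ Over.mk (r₂ ≫ U.hom))
      (key r₁ h₁) (key r₂ h₂) (Over.OverMorphism.ext hw)
    exact congrArg Subtype.val this
  let a := (isSheafForE B hR').amalgamate fam hfam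
  have ha : ∀ ⦃Z : C⦄ (g : Z ⟶ U.left) (hg : Sieve.overEquiv U R g), res B g a = fam g hg :=
    fun Z g hg => (isSheafForE B hR').valid_glue hfam g hg
  have haq : B.πQ U.left a = Q.obj.map U.hom.op q := eq_of_locally Q hR' _ _ fun Z g hg => by
    rw [← B.πQ_map, map_map]
    exact (congrArg (B.πQ Z) (ha g hg)).trans (x _ (key g hg)).2
  have hx' : ∀ {V : Over T} (f : V ⟶ U) (hf : R f) (hg : Sieve.overEquiv U R f.left),
      fam f.left hg = (x f hf).1 := by
    intro V f hf hg
    have := hx (Over.homMk (𝟙 V.left) (by simp) : Over.mk (f.left ≫ U.hom) ⟶ Over.mk (f.left ≫ U.hom))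
      (Over.homMk (𝟙 V.left) (by simp) : Over.mk (f.left ≫ U.hom) ⟶ V) (key f.left hg) hf
      (Over.OverMorphism.ext (by simp))
    have h' := congrArg Subtype.val this
    have e : ∀ y : B.E.obj.obj (op V.left), B.E.obj.map (𝟙 V.left).op y = y := fun y => by
      rw [op_id, B.E.obj.map_id]; rfl
    exact (e _).symm.trans (h'.trans (e _))
  have hmem : ∀ {V : Over T} (f : V ⟶ U), R f → Sieve.overEquiv U R f.left := fun {V} f hf =>
    (Sieve.overEquiv_iff R f.left).2 (by
      have := R.downward_closed hf (Over.homMk (𝟙 V.left) (by simp) : Over.mk (f.left ≫ U.hom) ⟶ V)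
      convert this using 1
      exact Over.OverMorphism.ext (by simp))
  refine ⟨(⟨a, haq⟩ : Fib B U.left _), fun V f hf => Subtype.ext ?_, fun y hy => Subtype.ext ?_⟩
  · exact (ha f.left (hmem f hf)).trans (hx' f hf (hmem f hf))
  · refine eq_of_locallyE B hR' _ _ fun Z g hg => ?_
    exact (congrArg Subtype.val (hy _ (key g hg))).trans (ha g hg).symm

/-- The sheaf of fibres over `q`. -/
def fibSh : Sheaf (J.over T) AddCommGrpCat.{u + 1} := ⟨fibPre B q, isSheaf_fibPre B q⟩

/-- The group inside the fibres. -/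
def incSh : G.over T ⟶ fibSh B q :=
  ⟨{ app := fun U => AddCommGrpCat.ofHom (inc B (Q.obj.map U.unop.hom.op q))
     naturality := fun U V f => AddCommGrpCat.ext fun g =>
      ((resF_inc B f.unop.left (by rw [map_map, Over.w]) g)).symm }⟩

instance mono_incSh : Mono (incSh B q) := by
  have : ∀ U, Mono ((incSh B q).hom.app U) := fun U =>
    (AddCommGrpCat.mono_iff_injective _).2 (inc_injective B _)
  exact Functor.mono_of_mono_map (sheafToPresheaf (J.over T) AddCommGrpCat.{u + 1})
    (NatTrans.mono_of_mono_app (incSh B q).hom)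

variable {M : Sheaf J AddCommGrpCat.{u + 1}} (j : G ⟶ M)

/-- A trivialisation of the restriction of `B` to a section `p` of the first factor, after pushing out
along `j : G ⟶ M`. -/
structure Trv (p : P.obj.obj (op T)) where
  /-- the values -/
  val : ∀ {U : C} (f : U ⟶ T) (x : B.E.obj.obj (op U)), B.πP U x = P.obj.map f.op p → M.obj.obj (op U)
  val_map : ∀ {U V : C} (f : U ⟶ T) (g : V ⟶ U) (x : B.E.obj.obj (op U)) (h : B.πP U x = P.obj.map f.op p)
    (h' : B.πP V (res B g x) = P.obj.map (g ≫ f).op p), M.obj.map g.op (val f x h) = val (g ≫ f) (res B g x) h'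
  val_add : ∀ {U : C} (f : U ⟶ T) (x y : B.E.obj.obj (op U)) (hx : B.πP U x = P.obj.map f.op p)
    (hy : B.πP U y = P.obj.map f.op p),
    val f (B.add₂ U x y (hx.trans hy.symm)) ((B.πP_add₂ _ _ _ _).trans hx) = val f x hx + val f y hy
  val_act : ∀ {U : C} (f : U ⟶ T) (g : G.obj.obj (op U)) (x : B.E.obj.obj (op U))
    (hx : B.πP U x = P.obj.map f.op p),
    val f (B.act U g x) ((B.πP_act _ _ _).trans hx) = j.hom.app (op U) g + val f x hx

variable {B} {j}

theorem Trv.congr {p : P.obj.obj (op T)} (t : Trv B j p) {U : C} {f f' : U ⟶ T}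
    {x x' : B.E.obj.obj (op U)} (hf : f = f') (hx : x = x') (h : B.πP U x = P.obj.map f.op p)
    (h' : B.πP U x' = P.obj.map f'.op p) : t.val f x h = t.val f' x' h' := by
  subst hf; subst hx; rfl

/-- Restriction of a trivialisation. -/
def Trv.restr {p : P.obj.obj (op T)} (t : Trv B j p) {T' : C} (a : T' ⟶ T) :
    Trv B j (P.obj.map a.op p) where
  val f x h := t.val (f ≫ a) x (h.trans (map_map P a f p))
  val_map f g x h h' := (t.val_map (f ≫ a) g x _ (by rw [h', map_map, Category.assoc])).trans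
    (t.congr (Category.assoc g f a).symm rfl _ _)
  val_add f x y hx hy := t.val_add (f ≫ a) x y _ _
  val_act f g x hx := t.val_act (f ≫ a) g x _

/-- Trivialisations exist into injective sheaves. -/
theorem exists_trv (B : Biext J P Q G) (j : G ⟶ M) (p : P.obj.obj (op T))
    [Injective ((J.overPullback AddCommGrpCat.{u + 1} T).obj M)] :
    Nonempty (Trv B j p) := by
  let χ : fibSh (flip B) p ⟶ M.over T :=
    Injective.factorThru ((J.overPullback AddCommGrpCat.{u + 1} T).map j) (incSh (flip B) p)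
  have hχ : incSh (flip B) p ≫ χ = (J.overPullback AddCommGrpCat.{u + 1} T).map j :=
    Injective.comp_factorThru _ _
  let v : ∀ {U : C} (f : U ⟶ T), Fib (flip B) U (P.obj.map f.op p) →+ M.obj.obj (op U) :=
    fun {U} f => (χ.hom.app (op (Over.mk f))).hom
  refine ⟨{ val := fun {U} f x h => v f ⟨x, h⟩, val_map := ?_, val_add := ?_, val_act := ?_ }⟩
  · intro U V f g x h h'
    exact (NatTrans.naturality_apply χ.hom (Over.homMk g : Over.mk (g ≫ f) ⟶ Over.mk f).op
      (⟨x, h⟩ : Fib (flip B) U _)).symm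
  · intro U f x y hx hy
    exact map_add (v f) ⟨x, hx⟩ ⟨y, hy⟩
  · intro U f g x hx
    have hi : j.hom.app (op U) g = v f (inc (flip B) _ g) :=
      (ConcreteCategory.congr_hom
        (congrArg (fun φ : G.over T ⟶ M.over T => φ.hom.app (op (Over.mk f))) hχ) g).symm
    rw [hi, ← map_add]
    exact congrArg _ (Subtype.ext (inc_add (flip B) g (q := P.obj.map f.op p) ⟨x, hx⟩).symm)

/-- Gluing a morphism out of a functional, locally total, additive relation. -/
theorem exists_hom_of_locally {A N : Sheaf J AddCommGrpCat.{u + 1}}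
    (Rel : ∀ {U : C}, (U ⟶ T) → A.obj.obj (op U) → N.obj.obj (op U) → Prop)
    (hmap : ∀ {U V : C} (f : U ⟶ T) (g : V ⟶ U) (a : A.obj.obj (op U)) (b : N.obj.obj (op U)),
      Rel f a b → Rel (g ≫ f) (A.obj.map g.op a) (N.obj.map g.op b))
    (huniq : ∀ {U : C} (f : U ⟶ T) (a : A.obj.obj (op U)) (b b' : N.obj.obj (op U)),
      Rel f a b → Rel f a b' → b = b')
    (hadd : ∀ {U : C} (f : U ⟶ T) (a a' : A.obj.obj (op U)) (b b' : N.obj.obj (op U)),
      Rel f a b → Rel f a' b' → Rel f (a + a') (b + b'))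
    (htot : ∀ {U : C} (f : U ⟶ T) (a : A.obj.obj (op U)), ∃ R ∈ J U, ∀ ⦃V : C⦄ (g : V ⟶ U), R g →
      ∃ b, Rel (g ≫ f) (A.obj.map g.op a) b) :
    ∃ η : A.over T ⟶ N.over T, ∀ {U : C} (f : U ⟶ T) (a : A.obj.obj (op U)) (b : N.obj.obj (op U)),
      Rel f a b → η.hom.app (op (Over.mk f)) a = b := by
  have hex : ∀ (U : C) (f : U ⟶ T) (a : A.obj.obj (op U)), ∃ b : N.obj.obj (op U),
      ∀ ⦃V : C⦄ (g : V ⟶ U) (b' : N.obj.obj (op V)),
        Rel (g ≫ f) (A.obj.map g.op a) b' → N.obj.map g.op b = b' := by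
    intro U f a
    obtain ⟨R, hR, h⟩ := htot f a
    choose b hb using h
    let fam : Presieve.FamilyOfElements (N.obj ⋙ forget AddCommGrpCat.{u + 1}) R.arrows :=
      fun V g hg => b g hg
    have hfam : fam.Compatible := by
      intro Y₁ Y₂ Z g₁ g₂ r₁ r₂ h₁ h₂ hw
      have e₁ := hmap (r₁ ≫ f) g₁ _ _ (hb r₁ h₁)
      have e₂ := hmap (r₂ ≫ f) g₂ _ _ (hb r₂ h₂)
      rw [map_map, ← Category.assoc] at e₁ e₂
      rw [hw] at e₁
      exact huniq _ _ _ _ e₁ e₂
    refine ⟨(isSheafFor N hR).amalgamate fam hfam, fun V g b' hb' => ?_⟩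
    refine eq_of_locally N (J.pullback_stable g hR) _ _ fun W s hs => ?_
    rw [map_map]
    refine ((isSheafFor N hR).valid_glue hfam (s ≫ g) hs).trans ?_
    have e := hmap (g ≫ f) s _ _ hb'
    rw [map_map, ← Category.assoc] at e
    exact huniq _ _ _ _ (hb (s ≫ g) hs) e
  choose η hη using hex
  have hη' : ∀ {U : C} (f : U ⟶ T) (a : A.obj.obj (op U)) (b : N.obj.obj (op U)), Rel f a b → η U f a = b := by
    intro U f a b h
    have := hη U f a (𝟙 U) b (by rw [Category.id_comp, map_id']; exact h)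
    rwa [map_id'] at this
  let F : ∀ V : (Over T)ᵒᵖ, A.obj.obj (op V.unop.left) →+ N.obj.obj (op V.unop.left) := fun V =>
    AddMonoidHom.mk' (η V.unop.left V.unop.hom) fun a a' => by
      obtain ⟨R, hR, h⟩ := htot V.unop.hom a
      obtain ⟨R', hR', h'⟩ := htot V.unop.hom a'
      refine eq_of_locally N (J.intersection_covering hR hR') _ _ fun W g hg => ?_
      obtain ⟨b, hb⟩ := h g hg.1
      obtain ⟨b', hb'⟩ := h' g hg.2
      rw [map_add, hη _ _ _ g b hb, hη _ _ _ g b' hb']
      refine hη _ _ _ g _ ?_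
      rw [map_add]
      exact hadd _ _ _ _ _ hb hb'
  refine ⟨⟨{ app := fun V => AddCommGrpCat.ofHom (F V), naturality := fun V V' m => ?_ }⟩, fun f a b h => hη' f a b h⟩
  refine AddCommGrpCat.ext fun (a : A.obj.obj (op V.unop.left)) => ?_
  show η V'.unop.left V'.unop.hom (A.obj.map m.unop.left.op a) = N.obj.map m.unop.left.op (η V.unop.left V.unop.hom a)
  obtain ⟨R, hR, h⟩ := htot V'.unop.hom (A.obj.map m.unop.left.op a)
  refine eq_of_locally N hR _ _ fun W g hg => ?_
  obtain ⟨b, hb⟩ := h g hg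
  rw [hη _ _ _ g b hb, map_map]
  refine (hη _ _ _ (g ≫ m.unop.left) b ?_).symm
  rw [map_map] at hb
  rwa [Category.assoc, Over.w]

end Groth.L07.BiextTriv
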