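import Groth.Prelude.Def_CGrpSh2
import Groth.Agent.L25.Descent.CentralHom
import Groth.Agent.L08.DoubleDual.Main

/-! Internal Hom sheaves of commutative group schemes which vanish, and left exactness in the second
variable. -/

set_option autoImplicit false
set_option linter.style.haveILetI false
set_option backward.isDefEq.respectTransparency.types false
set_option backward.defeqAttrib.useBackward true
set_option backward.isDefEq.respectTransparency false

universe u

open CategoryTheory CategoryTheory.Limits MonoidalCategory CartesianMonoidalCategory MonObj AlgebraicGeometry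

noncomputable section

namespace Groth.L07.BiextTriv

/-- If every homomorphism over every base is trivial, the internal Hom sheaf vanishes. -/
theorem isZero_homSh {S : Scheme.{u}} (P Y : Over S) [GrpObj P] [IsCommMonObj P] [GrpObj Y] [IsCommMonObj Y]
    (h : ∀ (X : Scheme.{u}) (t : X ⟶ S) (v : Red.bc t P ⟶ Red.bc t Y) [IsMonHom v], v = 1) :
    IsZero (HomSh.homSh (QuotSh.J Scheme.fppfPrecoverage S) (CGrpSh.pts Scheme.fppfPrecoverage P)
      (CGrpSh.pts Scheme.fppfPrecoverage Y)) := by
  rw [IsZero.iff_id_eq_zero]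
  apply Sheaf.hom_ext
  ext X : 2
  refine AddCommGrpCat.ext fun φ => ?_
  change (φ : _ ⟶ _) = 0
  apply Sheaf.hom_ext
  ext U x
  obtain ⟨X⟩ := X
  obtain ⟨U⟩ := U
  let D : Over X := Over.mk (snd P X)
  let x₀ : ULift.{u + 1} (Additive (P ⊗ X ⟶ P)) := ULift.up (Additive.ofMul (fst P X))
  let u : P ⊗ X ⟶ Y := (φ.hom.app (Opposite.op D) x₀).down.toMul
  have key : ∀ (Z : Over S) (t : Z ⟶ P) (p : Z ⟶ X),
      (φ.hom.app (Opposite.op (Over.mk p : Over X)) (ULift.up (Additive.ofMul t))).down.toMul =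
        lift t p ≫ u := by
    intro Z t p
    let m : (Over.mk p : Over X) ⟶ D := Over.homMk (lift t p) (lift_snd t p)
    have h := ConcreteCategory.congr_hom (φ.hom.naturality m.op) x₀
    simp only [ConcreteCategory.comp_apply] at h
    refine Eq.trans ?_ (congrArg (fun z => z.down.toMul) h)
    congr 4
    exact (lift_fst t p).symm
  have hmul : Groth.L25.HomSmooth.MulOn u := by
    intro Z p a b
    rw [← key, ← key, ← key]
    exact congrArg (fun z => z.down.toMul)
      (map_add (φ.hom.app (Opposite.op (Over.mk p : Over X))).hom (ULift.up (Additive.ofMul a))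
        (ULift.up (Additive.ofMul b)))
  let p₁ : Over.mk X.hom ⟶ X := Over.homMk (𝟙 X.left) (Category.id_comp _)
  let v := Groth.L25.Descent.famHom u X.hom p₁
  haveI : IsMonHom v := Groth.L25.Descent.isMonHom_famHom u hmul X.hom p₁
  have hv : v = 1 := h X.left X.hom v
  let t : U.left ⟶ P := x.down.toMul
  let W : Over X.left := Over.mk U.hom.left
  let c : Over.mk (W.hom ≫ X.hom) ⟶ U.left := Over.homMk (𝟙 U.left.left) (by
    show 𝟙 _ ≫ U.left.hom = U.hom.left ≫ X.hom
    rw [Category.id_comp, Over.w U.hom])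
  have h1 := Groth.L25.Descent.toBase_famHom u X.hom p₁ (Groth.L25.NilAction.ofBase X.hom (c ≫ t))
  rw [show Groth.L25.NilAction.ofBase X.hom (c ≫ t) ≫ v = 1 by rw [hv, MonObj.comp_one],
    Groth.L25.NilAction.toBase_one, Groth.L25.NilAction.toBase_ofBase] at h1
  have h2 : Groth.L25.Descent.ptY X.hom W ≫ p₁ = c ≫ U.hom := by
    apply Over.OverMorphism.ext
    show U.hom.left ≫ 𝟙 _ = 𝟙 _ ≫ U.hom.left
    rw [Category.id_comp, Category.comp_id]
  rw [h2, ← comp_lift_assoc] at h1
  have h3 : (lift t U.hom ≫ u) = 1 := by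
    have : IsIso c := by
      have : IsIso c.left := inferInstanceAs (IsIso (𝟙 U.left.left))
      have : IsIso ((Over.forget S).map c) := this
      exact isIso_of_reflects_iso c (Over.forget S)
    rw [← cancel_epi c, MonObj.comp_one]
    exact h1.symm
  apply ULift.ext
  show (φ.hom.app (Opposite.op U) x).down = _
  apply Additive.toMul.injective
  exact (key U.left t U.hom).trans h3

open Groth.L08.DoubleDual in
/-- The internal Hom out of a fixed sheaf is left exact: exactness. -/
theorem exact_homSh {K : Precoverage Scheme.{u}} {S : Scheme.{u}} (Q : BigSite.Ab K S)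
    (Sh : ShortComplex (BigSite.Ab K S)) (h : Sh.Exact) [Mono Sh.f] :
    (ShortComplex.mk (HomSh.homShMap (QuotSh.J K S) (𝟙 Q) Sh.f) (HomSh.homShMap (QuotSh.J K S) (𝟙 Q) Sh.g)
      (by rw [← HomSh.homShMap_comp, Sh.zero, Category.comp_id]; exact (HomSh.homShFunctor (QuotSh.J K S) Q).map_zero _ _)).Exact := by
  refine (Groth.L27.FppfCmp.exact_iff_locally _).2 fun X φ hφ => ⟨⊤, (QuotSh.J K S).top_mem X, fun X' a _ => ?_⟩
  let φ₀ : Q.over X ⟶ Sh.X₂.over X := φ
  have hφ' : φ₀ ≫ ((QuotSh.J K S).overPullback AddCommGrpCat.{u + 1} X).map Sh.g = 0 := by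
    refine Eq.trans ?_ hφ
    refine Eq.trans ?_ (HomSh.homShMap_app_apply (QuotSh.J K S) (𝟙 Q) Sh.g (Opposite.op X) φ₀).symm
    rw [CategoryTheory.Functor.map_id]
    exact (Category.id_comp _).symm
  haveI : Mono (Sh.map ((QuotSh.J K S).overPullback AddCommGrpCat.{u + 1} X)).f :=
    inferInstanceAs (Mono (((QuotSh.J K S).overPullback AddCommGrpCat.{u + 1} X).map Sh.f))
  let ψ : Q.over X ⟶ Sh.X₁.over X := (exact_over (QuotSh.J K S) X h).lift φ₀ hφ'
  have e : ∀ (Z : Over S) (χ : Q.over Z ⟶ Sh.X₁.over Z),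
      (HomSh.homShMap (QuotSh.J K S) (𝟙 Q) Sh.f).hom.app (Opposite.op Z) χ =
        (χ ≫ ((QuotSh.J K S).overPullback AddCommGrpCat.{u + 1} Z).map Sh.f : Q.over Z ⟶ Sh.X₂.over Z) :=
    fun Z χ => by
    refine (HomSh.homShMap_app_apply (QuotSh.J K S) (𝟙 Q) Sh.f (Opposite.op Z) χ).trans ?_
    rw [CategoryTheory.Functor.map_id]
    exact Category.id_comp _
  have hψ : ψ ≫ ((QuotSh.J K S).overPullback AddCommGrpCat.{u + 1} X).map Sh.f = φ₀ :=
    (exact_over (QuotSh.J K S) X h).lift_f φ₀ hφ'
  refine ⟨restr a ψ, (e X' (restr a ψ)).trans ?_⟩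
  rw [← restr_comp_right, hψ]

open Groth.L08.DoubleDual in
/-- The internal Hom out of a fixed sheaf preserves monomorphisms. -/
theorem mono_homSh {K : Precoverage Scheme.{u}} {S : Scheme.{u}} (Q : BigSite.Ab K S)
    {M N : BigSite.Ab K S} (f : M ⟶ N) [Mono f] :
    Mono (HomSh.homShMap (QuotSh.J K S) (𝟙 Q) f) := by
  refine mono_of_app _ fun X φ φ' h => ?_
  have e : ∀ ψ : Q.over X ⟶ M.over X,
      (HomSh.homShMap (QuotSh.J K S) (𝟙 Q) f).hom.app (Opposite.op X) ψ =
        (ψ ≫ ((QuotSh.J K S).overPullback AddCommGrpCat.{u + 1} X).map f : Q.over X ⟶ N.over X) := fun ψ => by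
    refine (HomSh.homShMap_app_apply (QuotSh.J K S) (𝟙 Q) f (Opposite.op X) ψ).trans ?_
    rw [CategoryTheory.Functor.map_id]
    exact Category.id_comp _
  exact (cancel_mono (((QuotSh.J K S).overPullback AddCommGrpCat.{u + 1} X).map f)).1
    (((e φ).symm.trans h).trans (e φ'))

end Groth.L07.BiextTriv
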