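import Groth.Agent.L26.AV.NonNoethRigidity
import Groth.Agent.L26.AV.FibConst
import Groth.Agent.L25.MaxTorus.Image
import Groth.Agent.L08.P1Hom.TorusRel

/-! A homomorphism from an abelian scheme to a torus is trivial. -/

set_option autoImplicit false
set_option linter.style.haveILetI false
set_option backward.isDefEq.respectTransparency.types false

open CategoryTheory CategoryTheory.Limits MonoidalCategory CartesianMonoidalCategory MonObj AlgebraicGeometry

universe u

namespace Groth.L07.BiextTriv

/-- A map to an affine scheme from a scheme with only constant functions is constant. -/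
theorem apply_eq_of_surjective_appTop {L : Type u} [Field L] {Z Y : Scheme.{u}} [IsAffine Y]
    (j : Z ⟶ Spec (CommRingCat.of L)) (hj : Function.Surjective j.appTop.hom) (g : Z ⟶ Y) (z z' : Z) :
    g z = g z' := by
  have hsub : Subsingleton ↥(Spec Γ(Z, ⊤)) := by
    have hs : Function.Surjective ((Scheme.ΓSpecIso (CommRingCat.of L)).inv ≫ j.appTop).hom := by
      rw [CommRingCat.hom_comp, RingHom.coe_comp]
      exact hj.comp (ConcreteCategory.bijective_of_isIso (Scheme.ΓSpecIso (CommRingCat.of L)).inv).2
    exact (PrimeSpectrum.comap_injective_of_surjective _ hs).subsingleton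
  have hg : g = Z.toSpecΓ ≫ Spec.map g.appTop ≫ Y.isoSpec.inv := by
    rw [← Scheme.toSpecΓ_naturality_assoc, Scheme.toSpecΓ_isoSpec_inv, Category.comp_id]
  rw [hg, Scheme.Hom.comp_apply, Scheme.Hom.comp_apply (f := Z.toSpecΓ),
    Subsingleton.elim (α := ↥(Spec Γ(Z, ⊤))) (Z.toSpecΓ z) (Z.toSpecΓ z')]

/-- A homomorphism from a proper flat group scheme with geometrically connected and reduced fibres to
a torus collapses every fibre. -/
theorem collapsed_hom_to_torus {S : Scheme.{u}} {A T : Over S} [GrpObj T] (hT : Red.IsTorus T)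
    [IsProper A.hom] [GeometricallyConnected A.hom] [GeometricallyReduced A.hom]
    (f : A ⟶ T) : Groth.Agent.AV.collapsed A.hom f.left = Set.univ := by
  refine Set.eq_univ_of_forall fun s x x' hx hx' => ?_
  obtain ⟨S', g, -, hsurj, -, hloc⟩ := hT
  obtain ⟨s', rfl⟩ := hsurj.surj s
  obtain ⟨U, hs', r, ⟨e⟩⟩ := hloc s'
  let L := U.toScheme.residueField ⟨s', hs'⟩
  let σ : Spec (CommRingCat.of L) ⟶ U.toScheme := U.toScheme.fromSpecResidueField ⟨s', hs'⟩
  let t := σ ≫ U.ι ≫ g
  let eL : Grp.mk (Red.bc t T) ≅ Grp.mk (Red.DS (Spec (CommRingCat.of L)) (Fin r → ℤ)) :=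
    L25.TrivLocus.restrictIso (U.ι ≫ g) σ e rfl
  haveI := Groth.L25.MaxTorus.isAffineHom_DS (Spec (CommRingCat.of L)) (Fin r → ℤ)
  haveI : IsAffine (Red.DS (Spec (CommRingCat.of L)) (Fin r → ℤ)).left :=
    isAffine_of_isAffineHom (Red.DS (Spec (CommRingCat.of L)) (Fin r → ℤ)).hom
  let eS : (Red.bc t T).left ≅ (Red.DS (Spec (CommRingCat.of L)) (Fin r → ℤ)).left :=
    (Over.forget _).mapIso ((Grp.forget _).mapIso eL)
  haveI : IsAffine (Red.bc t T).left := IsAffine.of_isIso eS.hom
  let Z := Limits.pullback A.hom t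
  let fL : Z ⟶ (Red.bc t T).left :=
    pullback.lift (pullback.fst A.hom t ≫ f.left) (pullback.snd A.hom t)
      (by rw [Category.assoc, Over.w, pullback.condition])
  haveI : GeometricallyConnected (pullback.snd A.hom t) := inferInstance
  haveI : GeometricallyReduced (pullback.snd A.hom t) :=
    MorphismProperty.pullback_snd A.hom t ‹GeometricallyReduced A.hom›
  have hj : Function.Surjective (pullback.snd A.hom t).appTop.hom :=
    Groth.Agent.AV.surjective_appTop_of_algebraicClosure (pullback.snd A.hom t)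
      (GeometricallyConnected.geometrically_connectedSpace _ _ _ (IsPullback.of_hasPullback _ _))
      (GeometricallyReduced.geometrically_isReduced _ _ _ (IsPullback.of_hasPullback _ _))
  have hpt : t (IsLocalRing.closedPoint L) = g s' := by
    show g (U.ι (σ (IsLocalRing.closedPoint L))) = g s'
    rw [Scheme.fromSpecResidueField_apply]
    rfl
  obtain ⟨z, hz, -⟩ := Scheme.Pullback.exists_preimage_pullback (f := A.hom) (g := t) x
    (IsLocalRing.closedPoint L) (hx.trans hpt.symm)
  obtain ⟨z', hz', -⟩ := Scheme.Pullback.exists_preimage_pullback (f := A.hom) (g := t) x'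
    (IsLocalRing.closedPoint L) (hx'.trans hpt.symm)
  have key : ∀ w : Z, pullback.fst T.hom t (fL w) = f.left (pullback.fst A.hom t w) := fun w => by
    rw [← Scheme.Hom.comp_apply, ← Scheme.Hom.comp_apply]
    exact congrArg (fun φ : Z ⟶ T.left => φ w) (pullback.lift_fst _ _ _)
  rw [← hz, ← hz', ← key, ← key, apply_eq_of_surjective_appTop (pullback.snd A.hom t) hj fL z z']

/-- A homomorphism from an abelian scheme to a torus is trivial. -/
theorem hom_to_torus_eq_one {S : Scheme.{u}} {A T : Over S} [GrpObj A] [GrpObj T] (hT : Red.IsTorus T)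
    [IsProper A.hom] [Flat A.hom] [LocallyOfFinitePresentation A.hom] [GeometricallyConnected A.hom]
    [GeometricallyReduced A.hom] (f : A ⟶ T) [IsMonHom f] : f = 1 := by
  obtain ⟨k, hk⟩ := Groth.Agent.AV.exists_factor_of_collapsed_univ A.hom f.left (collapsed_hom_to_torus hT f)
  have h1 : (η[A]).left ≫ A.hom = 𝟙 S := Over.w η[A]
  have hk' : k = (η[T]).left := by
    have h : (η[A]).left ≫ f.left = (η[T]).left :=
      congrArg (fun φ : 𝟙_ (Over S) ⟶ T => φ.left) (IsMonHom.one_hom (f := f))
    rw [hk, reassoc_of% h1] at h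
    exact h
  ext1
  rw [hk, hk', Hom.one_def, Over.comp_left, Over.toUnit_left]

end Groth.L07.BiextTriv
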