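import Groth.Agent.L07.BiextTriv.Law
import Mathlib.CategoryTheory.Sites.EpiMono
import Mathlib.Algebra.Category.Grp.Abelian
import Groth.Agent.L27.FppfCmp.LocExact
import Mathlib.CategoryTheory.ConcreteCategory.EpiMono
import Mathlib.CategoryTheory.Sites.Abelian

/-! Biextensions of divisible sheaves: the inverse image by `(n, m)` has trivial kernel. -/

set_option autoImplicit false
set_option backward.isDefEq.respectTransparency.types false
set_option backward.isDefEq.respectTransparency false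

universe u

open CategoryTheory CategoryTheory.Limits Opposite

noncomputable section

namespace Groth.L07.BiextTriv

variable {C : Type (u + 1)} [Category.{u} C] {J : GrothendieckTopology C}
  [HasSheafify J AddCommGrpCat.{u + 1}] {P Q G : Sheaf J AddCommGrpCat.{u + 1}}

theorem zsmul_id_app (F : Sheaf J AddCommGrpCat.{u + 1}) (k : ℤ) (T : C) (x : F.obj.obj (op T)) :
    (k • 𝟙 F : F ⟶ F).hom.app (op T) x = k • x := by
  let E := sheafToPresheaf J AddCommGrpCat.{u + 1} ⋙ (evaluation _ _).obj (op T)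
  show E.map (k • 𝟙 F) x = k • x
  rw [Functor.map_zsmul, E.map_id]
  rfl

/-- Roots exist locally in a divisible sheaf. -/
theorem exists_root (F : Sheaf J AddCommGrpCat.{u + 1}) (k : ℤ) (h : Epi (k • 𝟙 F)) {T : C}
    (x : F.obj.obj (op T)) :
    ∃ R ∈ J T, ∀ ⦃V : C⦄ (g : V ⟶ T), R g → ∃ y : F.obj.obj (op V), k • y = F.obj.map g.op x := by
  have hs : Sheaf.IsLocallySurjective (k • 𝟙 F) := (Sheaf.isLocallySurjective_iff_epi' AddCommGrpCat.{u + 1} (k • 𝟙 F)).2 h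
  refine ⟨_, hs.imageSieve_mem x, fun V g ⟨y, hy⟩ => ⟨y, ?_⟩⟩
  rw [← zsmul_id_app]
  exact hy

/-- Sections over multiples of the arguments, compatible with both laws. -/
structure Tau (B : Biext J P Q G) (n m : ℤ) where
  /-- the sections -/
  val : ∀ T : C, P.obj.obj (op T) → Q.obj.obj (op T) → B.E.obj.obj (op T)
  πP_val : ∀ T p q, B.πP T (val T p q) = n • p
  πQ_val : ∀ T p q, B.πQ T (val T p q) = m • q
  val_map : ∀ {T T' : C} (f : T' ⟶ T) p q, res B f (val T p q) = val T' (P.obj.map f.op p) (Q.obj.map f.op q)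
  val_add₁ : ∀ T p p' q (h : B.πQ T (val T p q) = B.πQ T (val T p' q)),
    val T (p + p') q = B.add₁ T (val T p q) (val T p' q) h
  val_add₂ : ∀ T p q q' (h : B.πP T (val T p q) = B.πP T (val T p q')),
    val T p (q + q') = B.add₂ T (val T p q) (val T p q') h

variable {B : Biext J P Q G} {n m : ℤ}

/-- The same with the factors exchanged. -/
def Tau.flip (τ : Tau B n m) : Tau (BiextTriv.flip B) m n where
  val T q p := τ.val T p q
  πP_val T q p := τ.πQ_val T p q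
  πQ_val T q p := τ.πP_val T p q
  val_map f q p := τ.val_map f p q
  val_add₁ T q q' p h := τ.val_add₂ T p q q' h
  val_add₂ T q p p' h := τ.val_add₁ T p p' q h

theorem Tau.val_of_torsion (τ : Tau B n m) (hQ : Epi (n • 𝟙 Q)) {T : C} {a : P.obj.obj (op T)}
    (ha : n • a = 0) (q : Q.obj.obj (op T)) : τ.val T a q = e₁ B (m • q) := by
  have hb : ∀ (U : C) (a : P.obj.obj (op U)) (q : Q.obj.obj (op U)), n • a = 0 →
      ∃ g, B.act U g (e₁ B (m • q)) = τ.val U a q := fun U a q h =>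
    exists_act B ((πP_e₁ B _).trans (((τ.πP_val U a q).trans h)).symm) ((πQ_e₁ B _).trans (τ.πQ_val U a q).symm)
  choose b hb using hb
  have buniq : ∀ (U : C) a q h (g : G.obj.obj (op U)), B.act U g (e₁ B (m • q)) = τ.val U a q → g = b U a q h :=
    fun U a q h g hg => act_inj B (hg.trans (hb U a q h).symm)
  have hadd₁ : ∀ (U : C) a a' q h h' h'', b U (a + a') q h'' = b U a q h + b U a' q h' := by
    intro U a a' q h h' h''
    have hh : B.πQ U (τ.val U a q) = B.πQ U (τ.val U a' q) := (τ.πQ_val U a q).trans (τ.πQ_val U a' q).symm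
    refine (buniq U (a + a') q h'' _ ?_).symm
    rw [τ.val_add₁ U a a' q hh]
    refine Eq.trans ?_ (add₁_congr B (hb U a q h) (hb U a' q h')
      ((B.πQ_act _ _ _).trans (B.πQ_act _ _ _).symm) hh)
    rw [add₁_act₂ B _ _ _ _ rfl, (isZero_e₁ B (m • q)).2]
  have hadd₂ : ∀ (U : C) a q q' h, b U a (q + q') h = b U a q h + b U a q' h := by
    intro U a q q' h
    have hh : B.πP U (τ.val U a q) = B.πP U (τ.val U a q') := (τ.πP_val U a q).trans (τ.πP_val U a q').symm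
    have h0 : B.πP U (e₁ B (m • q)) = B.πP U (e₁ B (m • q')) := (πP_e₁ B _).trans (πP_e₁ B _).symm
    refine (buniq U a (q + q') h _ ?_).symm
    rw [τ.val_add₂ U a q q' hh]
    refine Eq.trans ?_ (add₂_congr B (hb U a q h) (hb U a q' h)
      (((B.πP_act _ _ _).trans h0).trans (B.πP_act _ _ _).symm) hh)
    refine Eq.trans ?_ (add₁_act₂ (BiextTriv.flip B) _ _ _ _ h0 _).symm
    show B.act U _ _ = B.act U _ (B.add₂ U _ _ _)
    rw [smul_add, ← add₂_e₁]
  have hmap : ∀ (U V : C) (f : V ⟶ U) a q h h',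
      G.obj.map f.op (b U a q h) = b V (P.obj.map f.op a) (Q.obj.map f.op q) h' := by
    intro U V f a q h h'
    refine buniq V _ _ h' _ ?_
    rw [← τ.val_map, ← map_zsmul, ← res_e₁, ← hb U a q h]
    exact (B.act_map f _ _).symm
  suffices h0 : b T a q ha = 0 by
    rw [← hb T a q ha, h0, B.zero_act]
  obtain ⟨R, hR, hroot⟩ := exists_root Q n hQ q
  refine eq_of_locally G hR _ _ fun V g hg => ?_
  have ha' : n • P.obj.map g.op a = 0 := by rw [← map_zsmul, ha, map_zero]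
  obtain ⟨q₁, hq₁⟩ := hroot g hg
  rw [hmap T V g a q ha ha', map_zero, ← hq₁]
  let φ : Q.obj.obj (op V) →+ G.obj.obj (op V) := AddMonoidHom.mk' (fun r => b V _ r ha') (fun r r' => hadd₂ V _ r r' ha')
  have hk : ∀ k : ℤ, n • (k • P.obj.map g.op a) = 0 := fun k => by rw [smul_comm, ha', smul_zero]
  let ψ : ℤ →+ G.obj.obj (op V) := AddMonoidHom.mk' (fun k => b V (k • P.obj.map g.op a) q₁ (hk k)) (fun k l => by
    rw [← hadd₁ V _ _ q₁ (hk k) (hk l) (by rw [← add_smul]; exact hk (k + l))]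
    congr 1
    exact add_smul k l _)
  have hψ0 : ψ n = 0 := by
    have h00 : ψ 0 = 0 := map_zero ψ
    refine Eq.trans ?_ h00
    show b V _ q₁ _ = b V _ q₁ _
    congr 1
    rw [ha', zero_smul]
  have hψ1 : ψ 1 = φ q₁ := by
    show b V _ q₁ _ = b V _ q₁ _
    congr 1
    exact one_smul _ _
  show φ (n • q₁) = 0
  rw [map_zsmul, ← hψ1, ← map_zsmul, smul_eq_mul, mul_one, hψ0]

theorem Tau.val_eq_of_smul_eq_left (τ : Tau B n m) (hQ : Epi (n • 𝟙 Q)) {T : C} {p p' : P.obj.obj (op T)}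
    (h : n • p = n • p') (q : Q.obj.obj (op T)) : τ.val T p q = τ.val T p' q := by
  have ha : n • (p' - p) = 0 := by rw [smul_sub, h, sub_self]
  have hh : B.πQ T (τ.val T (p' - p) q) = B.πQ T (τ.val T p q) := (τ.πQ_val _ _ _).trans (τ.πQ_val _ _ _).symm
  conv_rhs => rw [← sub_add_cancel p' p]
  rw [τ.val_add₁ T (p' - p) p q hh]
  symm
  exact (add₁_congr B ((τ.val_of_torsion hQ ha q).trans (congrArg (e₁ B) (τ.πQ_val T p q).symm)) rfl hh
    (πQ_e₁ B _)).trans (e₁_add B _)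

theorem Tau.val_eq_of_smul_eq (τ : Tau B n m) (hP : Epi (m • 𝟙 P)) (hQ : Epi (n • 𝟙 Q)) {T : C}
    {p p' : P.obj.obj (op T)} {q q' : Q.obj.obj (op T)} (hp : n • p = n • p') (hq : m • q = m • q') :
    τ.val T p q = τ.val T p' q' :=
  (τ.val_eq_of_smul_eq_left hQ hp q).trans (τ.flip.val_eq_of_smul_eq_left hP hq p')

/-- A compatible system over multiples descends to a splitting. -/
theorem Tau.isTrivial (τ : Tau B n m) (hPn : Epi (n • 𝟙 P)) (hPm : Epi (m • 𝟙 P)) (hQn : Epi (n • 𝟙 Q))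
    (hQm : Epi (m • 𝟙 Q)) : Biext.IsTrivial J B := by
  let Root : ∀ (U : C), P.obj.obj (op U) → Q.obj.obj (op U) → P.obj.obj (op U) → Q.obj.obj (op U) → Prop :=
    fun U p q p₀ q₀ => n • p₀ = p ∧ m • q₀ = q
  let Good : ∀ (T : C), P.obj.obj (op T) → Q.obj.obj (op T) → B.E.obj.obj (op T) → Prop :=
    fun T p q x => ∀ ⦃V : C⦄ (g : V ⟶ T) p₀ q₀, Root V (P.obj.map g.op p) (Q.obj.map g.op q) p₀ q₀ →
      res B g x = τ.val V p₀ q₀
  have hloc : ∀ (T : C) p q, ∃ R ∈ J T, ∀ ⦃V : C⦄ (g : V ⟶ T), R g →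
      ∃ p₀ q₀, Root V (P.obj.map g.op p) (Q.obj.map g.op q) p₀ q₀ := by
    intro T p q
    obtain ⟨R, hR, h⟩ := exists_root P n hPn p
    obtain ⟨R', hR', h'⟩ := exists_root Q m hQm q
    refine ⟨R ⊓ R', J.intersection_covering hR hR', fun V g hg => ?_⟩
    obtain ⟨p₀, hp₀⟩ := h g hg.1
    obtain ⟨q₀, hq₀⟩ := h' g hg.2
    exact ⟨p₀, q₀, hp₀, hq₀⟩
  have guniq : ∀ T p q x x', Good T p q x → Good T p q x' → x = x' := by
    intro T p q x x' h h'
    obtain ⟨R, hR, hr⟩ := hloc T p q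
    refine eq_of_locallyE B hR _ _ fun V g hg => ?_
    obtain ⟨p₀, q₀, hr⟩ := hr g hg
    exact (h g p₀ q₀ hr).trans (h' g p₀ q₀ hr).symm
  have gex : ∀ T p q, ∃ x, Good T p q x := by
    intro T p q
    obtain ⟨R, hR, hr⟩ := hloc T p q
    choose p₀ q₀ hr using hr
    let fam : Presieve.FamilyOfElements B.E.obj R.arrows := fun V g hg => τ.val V (p₀ g hg) (q₀ g hg)
    have hfam : fam.Compatible := by
      intro Y₁ Y₂ Z g₁ g₂ r₁ r₂ h₁ h₂ hw
      show res B g₁ _ = res B g₂ _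
      rw [τ.val_map, τ.val_map]
      refine τ.val_eq_of_smul_eq hPm hQn ?_ ?_
      · rw [← map_zsmul, ← map_zsmul, (hr r₁ h₁).1, (hr r₂ h₂).1, map_map, map_map, hw]
      · rw [← map_zsmul, ← map_zsmul, (hr r₁ h₁).2, (hr r₂ h₂).2, map_map, map_map, hw]
    refine ⟨(isSheafForE B hR).amalgamate fam hfam, fun V g p₁ q₁ h₁ => ?_⟩
    refine eq_of_locallyE B (J.pullback_stable g hR) _ _ fun W k hk => ?_
    rw [res_res, τ.val_map]
    refine ((isSheafForE B hR).valid_glue hfam (k ≫ g) hk).trans (τ.val_eq_of_smul_eq hPm hQn ?_ ?_)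
    · rw [← map_zsmul, h₁.1, (hr _ hk).1, map_map]
    · rw [← map_zsmul, h₁.2, (hr _ hk).2, map_map]
  choose σ hσ using gex
  have hπ : ∀ T p q, B.πP T (σ T p q) = p ∧ B.πQ T (σ T p q) = q := by
    intro T p q
    obtain ⟨R, hR, hr⟩ := hloc T p q
    constructor
    · refine eq_of_locally P hR _ _ fun V g hg => ?_
      obtain ⟨p₀, q₀, hr⟩ := hr g hg
      rw [← B.πP_map]
      exact ((congrArg (B.πP V) (hσ T p q g p₀ q₀ hr)).trans (τ.πP_val _ _ _)).trans hr.1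
    · refine eq_of_locally Q hR _ _ fun V g hg => ?_
      obtain ⟨p₀, q₀, hr⟩ := hr g hg
      rw [← B.πQ_map]
      exact ((congrArg (B.πQ V) (hσ T p q g p₀ q₀ hr)).trans (τ.πQ_val _ _ _)).trans hr.2
  refine ⟨{ σ := σ, πP_σ := fun T p q => (hπ T p q).1, πQ_σ := fun T p q => (hπ T p q).2
            σ_map := ?_, σ_add₁ := ?_, σ_add₂ := ?_ }⟩
  · intro T T' f p q
    refine guniq _ _ _ _ _ (fun V g p₀ q₀ hr => ?_) (hσ T' _ _)
    rw [res_res]
    refine hσ T p q (g ≫ f) p₀ q₀ ⟨?_, ?_⟩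
    · rw [hr.1, map_map]
    · rw [hr.2, map_map]
  · intro T p p' q
    obtain ⟨R, hR, h⟩ := hloc T p q
    obtain ⟨R', hR', h'⟩ := hloc T p' q
    refine eq_of_locallyE B (J.intersection_covering hR hR') _ _ fun V g hg => ?_
    obtain ⟨p₀, q₀, hp₀, hq₀⟩ := h g hg.1
    obtain ⟨p₀', -, hp₀', -⟩ := h' g hg.2
    have hh : B.πQ V (τ.val V p₀ q₀) = B.πQ V (τ.val V p₀' q₀) := (τ.πQ_val _ _ _).trans (τ.πQ_val _ _ _).symm
    rw [hσ T (p + p') q g (p₀ + p₀') q₀ ⟨by rw [smul_add, hp₀, hp₀', map_add], hq₀⟩, τ.val_add₁ V p₀ p₀' q₀ hh]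
    refine Eq.trans ?_ (B.add₁_map g _ _ _).symm
    exact add₁_congr B (hσ T p q g p₀ q₀ ⟨hp₀, hq₀⟩).symm (hσ T p' q g p₀' q₀ ⟨hp₀', hq₀⟩).symm _ _
  · intro T p q q'
    obtain ⟨R, hR, h⟩ := hloc T p q
    obtain ⟨R', hR', h'⟩ := hloc T p q'
    refine eq_of_locallyE B (J.intersection_covering hR hR') _ _ fun V g hg => ?_
    obtain ⟨p₀, q₀, hp₀, hq₀⟩ := h g hg.1
    obtain ⟨-, q₀', -, hq₀'⟩ := h' g hg.2
    have hh : B.πP V (τ.val V p₀ q₀) = B.πP V (τ.val V p₀ q₀') := (τ.πP_val _ _ _).trans (τ.πP_val _ _ _).symm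
    rw [hσ T p (q + q') g p₀ (q₀ + q₀') ⟨hp₀, by rw [smul_add, hq₀, hq₀', map_add]⟩, τ.val_add₂ V p₀ q₀ q₀' hh]
    refine Eq.trans ?_ (B.add₂_map g _ _ _).symm
    exact add₂_congr B (hσ T p q g p₀ q₀ ⟨hp₀, hq₀⟩).symm (hσ T p q' g p₀ q₀' ⟨hp₀, hq₀'⟩).symm _ _

/-- Pushing a splitting along a morphism over `(n, m, 1)`. -/
def Tau.ofHomOver {B B' : Biext J P Q G} {n m : ℤ}
    (φ : Biext.HomOver J (n • 𝟙 P) (m • 𝟙 Q) (𝟙 G) B' B) (s : Biext.Splitting J B') : Tau B n m where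
  val T p q := φ.map T (s.σ T p q)
  πP_val T p q := by rw [φ.πP_map, s.πP_σ, zsmul_id_app]
  πQ_val T p q := by rw [φ.πQ_map, s.πQ_σ, zsmul_id_app]
  val_map f p q := (φ.map_res f _).symm.trans (congrArg (φ.map _) (s.σ_map f p q))
  val_add₁ T p p' q h := (congrArg (φ.map T) (s.σ_add₁ T p p' q)).trans (φ.map_add₁ T _ _ _)
  val_add₂ T p q q' h := (congrArg (φ.map T) (s.σ_add₂ T p q q')).trans (φ.map_add₂ T _ _ _)

end Groth.L07.BiextTriv
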