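import Groth.Agent.L07.BiextTriv.Cls
import Mathlib.Algebra.Homology.DerivedCategory.Ext.ExactSequences

/-! Triviality of biextensions from the vanishing of `Ext¹(P, 𝓗om(Q, G))` and `Hom(P, 𝓔xt¹(Q, G))`. -/

set_option autoImplicit false
set_option backward.isDefEq.respectTransparency.types false
set_option backward.isDefEq.respectTransparency false

universe u w

open CategoryTheory CategoryTheory.Limits Opposite AlgebraicGeometry

noncomputable section

namespace Groth.L07.BiextTriv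

variable {K : Precoverage Scheme.{u}} {S : Scheme.{u}} {P Q G : BigSite.Ab K S}
  (B : Biext (QuotSh.J K S) P Q G)

/-- Families of sections over a section of the second factor. -/
abbrev Fam (T : Over S) : Type (u + 1) :=
  ∀ (U : Over S) (_ : U ⟶ T) (q : Q.obj.obj (op U)), Fib B U q

/-- Pairs of a section of `P` and a partial splitting over it. -/
def splitGrp (T : Over S) : AddSubgroup (P.obj.obj (op T) × Fam B T) where
  carrier := {z | IsPartSplit B z.1 (fun U f q => (z.2 U f q).1)}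
  zero_mem' := by
    refine ⟨fun U f q => ⟨?_, πQ_e₁ B q⟩, fun U V f g q => ?_, fun U f q q' h => ?_⟩
    · exact (πP_e₁ B q).trans (map_zero (P.obj.map f.op).hom).symm
    · exact res_e₁ B g q
    · exact (add₂_e₁ B q q').symm
  add_mem' := by
    rintro a b ⟨a1, a2, a3⟩ ⟨b1, b2, b3⟩
    refine ⟨fun U f q => ⟨?_, ?_⟩, fun U V f g q => ?_, fun U f q q' h => ?_⟩
    · show B.πP U (B.add₁ U _ _ _) = P.obj.map f.op (a.1 + b.1)
      rw [B.πP_add₁, (a1 U f q).1, (b1 U f q).1, map_add]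
    · exact ((a.2 U f q) + (b.2 U f q)).2
    · show B.E.obj.map g.op (B.add₁ U _ _ _) = B.add₁ V _ _ _
      rw [B.add₁_map]
      exact add₁_congr B (a2 U V f g q) (b2 U V f g q) _ _
    · show B.add₁ U _ _ _ = B.add₂ U (B.add₁ U _ _ _) (B.add₁ U _ _ _) h
      exact (add₁_congr B (a3 U f q q' ((a1 U f q).1.trans (a1 U f q').1.symm))
        (b3 U f q q' ((b1 U f q).1.trans (b1 U f q').1.symm)) _
        (((B.πQ_add₂ _ _ _ _).trans (congrArg₂ (· + ·) (a.2 U f q).2 (a.2 U f q').2)).trans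
          ((B.πQ_add₂ _ _ _ _).trans (congrArg₂ (· + ·) (b.2 U f q).2 (b.2 U f q').2)).symm)).trans
        (B.compat U _ _ _ _ ((a1 U f q).1.trans (a1 U f q').1.symm)
          ((b1 U f q).1.trans (b1 U f q').1.symm) ((a.2 U f q).2.trans (b.2 U f q).2.symm)
          ((a.2 U f q').2.trans (b.2 U f q').2.symm))
  neg_mem' := by
    rintro a ⟨a1, a2, a3⟩
    have hP : ∀ (U : Over S) (f : U ⟶ T) q, B.πP U ((-a).2 U f q).1 = P.obj.map f.op (-a).1 := fun U f q => by
      show prj B q (-(a.2 U f q)) = P.obj.map f.op (-a.1)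
      rw [map_neg, map_neg]
      exact congrArg Neg.neg (a1 U f q).1
    refine ⟨fun U f q => ⟨hP U f q, ((-a).2 U f q).2⟩, fun U V f g q => ?_, fun U f q q' h => ?_⟩
    · have : resF B g rfl (-(a.2 U f q)) = -(a.2 V (g ≫ f) (Q.obj.map g.op q)) := by
        rw [map_neg]
        exact congrArg Neg.neg (Subtype.ext (a2 U V f g q))
      exact congrArg Subtype.val this
    · let z : Fib B U (q + q') := ⟨B.add₂ U ((-a).2 U f q).1 ((-a).2 U f q').1 h,
        (B.πQ_add₂ _ _ _ _).trans (congrArg₂ (· + ·) ((-a).2 U f q).2 ((-a).2 U f q').2)⟩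
      suffices hz : a.2 U f (q + q') + z = 0 from
        congrArg Subtype.val (neg_eq_of_add_eq_zero_right hz : -(a.2 U f (q + q')) = z)
      have hq : ∀ r : Q.obj.obj (op U), B.add₁ U (a.2 U f r).1 ((-a).2 U f r).1
          ((a.2 U f r).2.trans ((-a).2 U f r).2.symm) = e₁ B r := fun r =>
        congrArg Subtype.val (add_neg_cancel (a.2 U f r))
      refine Subtype.ext ?_
      show B.add₁ U _ _ _ = e₁ B (q + q')
      refine (add₁_congr B (a3 U f q q' ((a1 U f q).1.trans (a1 U f q').1.symm)) (rfl : z.1 = z.1) _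
        (((B.πQ_add₂ _ _ _ _).trans (congrArg₂ (· + ·) (a.2 U f q).2 (a.2 U f q').2)).trans z.2.symm)).trans ?_
      refine (B.compat U _ _ _ _ _ _ ((a.2 U f q).2.trans ((-a).2 U f q).2.symm)
        ((a.2 U f q').2.trans ((-a).2 U f q').2.symm)).trans ?_
      exact (add₂_congr B (hq q) (hq q') _ _).trans (add₂_e₁ B q q')

theorem mem_splitGrp {T : Over S} {z : P.obj.obj (op T) × Fam B T} :
    z ∈ splitGrp B T ↔ IsPartSplit B z.1 (fun U f q => (z.2 U f q).1) := Iff.rfl

/-- Restriction of pairs. -/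
def resSplit {T T' : Over S} (a : T' ⟶ T) : splitGrp B T →+ splitGrp B T' where
  toFun z := ⟨(P.obj.map a.op z.1.1, fun U f q => z.1.2 U (f ≫ a) q),
    ⟨fun U f q => ⟨((z.2.1 U (f ≫ a) q).1).trans (map_map P a f z.1.1).symm, (z.1.2 U (f ≫ a) q).2⟩,
     fun U V f g q => by
      refine (z.2.2.1 U V (f ≫ a) g q).trans ?_
      show (z.1.2 V (g ≫ f ≫ a) _).1 = (z.1.2 V ((g ≫ f) ≫ a) _).1
      rw [Category.assoc],
     fun U f q q' h => z.2.2.2 U (f ≫ a) q q' h⟩⟩
  map_zero' := Subtype.ext (Prod.ext (map_zero (P.obj.map a.op).hom) rfl)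
  map_add' x y := Subtype.ext (Prod.ext (map_add (P.obj.map a.op).hom x.1.1 y.1.1) rfl)

theorem ext_split {T : Over S} {z z' : splitGrp B T} (hp : z.1.1 = z'.1.1)
    (hs : ∀ U f q, (z.1.2 U f q).1 = (z'.1.2 U f q).1) : z = z' :=
  Subtype.ext (Prod.ext hp (funext fun U => funext fun f => funext fun q => Subtype.ext (hs U f q)))

theorem split_congr {T : Over S} (z : splitGrp B T) {U : Over S} {f f' : U ⟶ T} (hf : f = f')
    {q q' : Q.obj.obj (op U)} (hq : q = q') : (z.1.2 U f q).1 = (z.1.2 U f' q').1 := by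
  subst hf; subst hq; rfl

/-- The presheaf of pairs. -/
def splitPre : (Over S)ᵒᵖ ⥤ AddCommGrpCat.{u + 1} where
  obj T := AddCommGrpCat.of (splitGrp B T.unop)
  map a := AddCommGrpCat.ofHom (resSplit B a.unop)
  map_id T := AddCommGrpCat.ext fun z => ext_split B (map_id' P z.1.1) fun U f q =>
    split_congr B z (Category.comp_id f) rfl
  map_comp a b := AddCommGrpCat.ext fun z => ext_split B (map_map P a.unop b.unop z.1.1).symm fun U f q =>
    split_congr B z (Category.assoc f b.unop a.unop).symm rfl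

theorem isSheaf_splitPre : Presheaf.IsSheaf (QuotSh.J K S) (splitPre B) := by
  apply Presheaf.isSheaf_of_isSheaf_comp (QuotSh.J K S) (splitPre B) (forget AddCommGrpCat.{u + 1})
  rw [isSheaf_iff_isSheaf_of_type]
  intro T R hR x hx
  let xs : ∀ {T' : Over S} (r : T' ⟶ T), R r → splitGrp B T' := fun r hr => x r hr
  have hc : ∀ {Y₁ Y₂ Z : Over S} (g₁ : Z ⟶ Y₁) (g₂ : Z ⟶ Y₂) (r₁ : Y₁ ⟶ T) (r₂ : Y₂ ⟶ T) (h₁ : R r₁)
      (h₂ : R r₂), g₁ ≫ r₁ = g₂ ≫ r₂ → resSplit B g₁ (xs r₁ h₁) = resSplit B g₂ (xs r₂ h₂) :=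
    fun g₁ g₂ r₁ r₂ h₁ h₂ hw => hx g₁ g₂ h₁ h₂ hw
  let famP : Presieve.FamilyOfElements (P.obj ⋙ forget AddCommGrpCat.{u + 1}) R.arrows :=
    fun T' r hr => (xs r hr).1.1
  have hfamP : famP.Compatible := fun Y₁ Y₂ Z g₁ g₂ r₁ r₂ h₁ h₂ hw =>
    congrArg (fun z : splitGrp B Z => z.1.1) (hc g₁ g₂ r₁ r₂ h₁ h₂ hw)
  let p : P.obj.obj (op T) := (isSheafFor P hR).amalgamate famP hfamP
  have hp : ∀ {T' : Over S} (r : T' ⟶ T) (hr : R r), P.obj.map r.op p = (xs r hr).1.1 :=
    fun r hr => (isSheafFor P hR).valid_glue hfamP r hr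
  let famS : ∀ (U : Over S) (f : U ⟶ T) (_ : Q.obj.obj (op U)),
      Presieve.FamilyOfElements B.E.obj (R.pullback f).arrows :=
    fun U f q V g hg => ((xs (g ≫ f) hg).1.2 V (𝟙 V) (Q.obj.map g.op q)).1
  have hfamS : ∀ U f q, (famS U f q).Compatible := by
    intro U f q Y₁ Y₂ Z g₁ g₂ r₁ r₂ h₁ h₂ hw
    show res B g₁ _ = res B g₂ _
    refine ((xs (r₁ ≫ f) h₁).2.2.1 _ _ _ g₁ _).trans (Eq.trans ?_ ((xs (r₂ ≫ f) h₂).2.2.1 _ _ _ g₂ _).symm)
    have e := congrArg (fun z : splitGrp B Z => (z.1.2 Z (𝟙 Z) (Q.obj.map (g₁ ≫ r₁).op q)).1)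
      (hc g₁ g₂ (r₁ ≫ f) (r₂ ≫ f) h₁ h₂ (by rw [← Category.assoc, hw, Category.assoc]))
    refine (split_congr B (xs (r₁ ≫ f) h₁) (f' := 𝟙 Z ≫ g₁) (by simp) (map_map Q r₁ g₁ q)).trans
      (e.trans (split_congr B (xs (r₂ ≫ f) h₂) (f := 𝟙 Z ≫ g₂) (by simp) ?_))
    rw [hw]; exact (map_map Q r₂ g₂ q).symm
  let s : ∀ (U : Over S) (_ : U ⟶ T) (_ : Q.obj.obj (op U)), B.E.obj.obj (op U) := fun U f q =>
    (isSheafForE B ((QuotSh.J K S).pullback_stable f hR)).amalgamate (famS U f q) (hfamS U f q)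
  have hs : ∀ (U : Over S) (f : U ⟶ T) (q : Q.obj.obj (op U)) (V : Over S) (g : V ⟶ U) (hg : R (g ≫ f)),
      res B g (s U f q) = ((xs (g ≫ f) hg).1.2 V (𝟙 V) (Q.obj.map g.op q)).1 := fun U f q V g hg =>
    (isSheafForE B ((QuotSh.J K S).pullback_stable f hR)).valid_glue (hfamS U f q) g hg
  have hq : ∀ U f q, B.πQ U (s U f q) = q := fun U f q =>
    eq_of_locally Q ((QuotSh.J K S).pullback_stable f hR) _ _ fun V g hg => by
      rw [← B.πQ_map]
      exact (congrArg (B.πQ V) (hs U f q V g hg)).trans (((xs _ hg).1.2 V _ _).2)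
  have hP : ∀ U f q, B.πP U (s U f q) = P.obj.map f.op p := fun U f q =>
    eq_of_locally P ((QuotSh.J K S).pullback_stable f hR) _ _ fun V g hg => by
      rw [← B.πP_map, map_map]
      refine (congrArg (B.πP V) (hs U f q V g hg)).trans ((((xs _ hg).2.1 V (𝟙 V) _).1).trans ?_)
      rw [map_id']
      exact (hp _ hg).symm
  have hmap : ∀ (U V : Over S) (f : U ⟶ T) (g : V ⟶ U) q, res B g (s U f q) = s V (g ≫ f) (Q.obj.map g.op q) := by
    intro U V f g q
    refine eq_of_locallyE B ((QuotSh.J K S).pullback_stable (g ≫ f) hR) _ _ fun W k hk => ?_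
    rw [res_res, hs V (g ≫ f) _ W k hk, hs U f q W (k ≫ g) (by rw [Category.assoc]; exact hk)]
    have e : ∀ (r r' : W ⟶ T) (_ : r = r') (h : R r) (h' : R r') (a a' : Q.obj.obj (op W)) (_ : a = a'),
        ((xs r h).1.2 W (𝟙 W) a).1 = ((xs r' h').1.2 W (𝟙 W) a').1 := by
      rintro r r' rfl h h' a a' rfl; rfl
    exact e _ _ (Category.assoc k g f) _ _ _ _ (map_map Q g k q).symm
  have hadd : ∀ (U : Over S) (f : U ⟶ T) (q q' : Q.obj.obj (op U))
      (h : B.πP U (s U f q) = B.πP U (s U f q')), s U f (q + q') = B.add₂ U (s U f q) (s U f q') h := by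
    intro U f q q' h
    refine eq_of_locallyE B ((QuotSh.J K S).pullback_stable f hR) _ _ fun V g hg => ?_
    rw [hs U f _ V g hg]
    show _ = B.E.obj.map g.op _
    rw [B.add₂_map]
    have hh := ((xs _ hg).2.1 V (𝟙 V) (Q.obj.map g.op q)).1.trans ((xs _ hg).2.1 V (𝟙 V) (Q.obj.map g.op q')).1.symm
    refine ((split_congr B (xs _ hg) rfl (map_add (Q.obj.map g.op).hom q q')).trans
      ((xs _ hg).2.2.2 V (𝟙 V) _ _ hh)).trans ?_
    exact add₂_congr B (hs U f q V g hg).symm (hs U f q' V g hg).symm _ _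
  let z : splitGrp B T := ⟨(p, fun U f q => ⟨s U f q, hq U f q⟩),
    ⟨fun U f q => ⟨hP U f q, hq U f q⟩, hmap, hadd⟩⟩
  refine ⟨z, fun T' r hr => ?_, fun y hy => ?_⟩
  · refine ext_split B (hp r hr) fun U f q => ?_
    show s U (f ≫ r) q = ((xs r hr).1.2 U f q).1
    refine eq_of_locallyE B ((QuotSh.J K S).pullback_stable (f ≫ r) hR) _ _ fun W k hk => ?_
    rw [hs U (f ≫ r) q W k hk]
    refine Eq.trans ?_ ((xs r hr).2.2.1 U W f k q).symm
    have e := congrArg (fun w : splitGrp B W => (w.1.2 W (𝟙 W) (Q.obj.map k.op q)).1)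
      (hc (𝟙 W) (k ≫ f) (k ≫ f ≫ r) r hk hr (by rw [Category.id_comp, Category.assoc]))
    refine (split_congr B _ (Category.id_comp _).symm rfl).trans (e.trans ?_)
    exact split_congr B _ (Category.id_comp _) rfl
  · refine ext_split B ?_ fun U f q => ?_
    · exact eq_of_locally P hR _ _ fun T' r hr =>
        (congrArg (fun w : splitGrp B T' => w.1.1) (hy r hr)).trans (hp r hr).symm
    · refine eq_of_locallyE B ((QuotSh.J K S).pullback_stable f hR) _ _ fun V g hg => ?_
      refine ((y.2.2.1 U V f g q).trans ?_).trans (hs U f q V g hg).symm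
      refine Eq.trans (split_congr B y (Category.id_comp _).symm rfl) ?_
      exact congrArg (fun w : splitGrp B V => (w.1.2 V (𝟙 V) (Q.obj.map g.op q)).1) (hy _ hg)

/-- The sheaf of pairs. -/
def splitSh : BigSite.Ab K S := ⟨splitPre B, isSheaf_splitPre B⟩

/-- The projection to `P`. -/
def splitProj : splitSh B ⟶ P :=
  ⟨{ app := fun T => AddCommGrpCat.ofHom ((AddMonoidHom.fst _ _).comp (splitGrp B T.unop).subtype) }⟩

/-- Values of a local morphism, as a pair over zero. -/
def splitInclApp (T : Over S) : (Q.over T ⟶ G.over T) →+ splitGrp B T where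
  toFun φ := ⟨(0, fun U f q => inc B q (φ.hom.app (op (Over.mk f)) q)),
    ⟨fun U f q => ⟨by rw [map_zero]; exact (B.πP_act _ _ _).trans (πP_e₁ B q), (inc B q _).2⟩,
     fun U V f g q => by
      refine (congrArg Subtype.val (resF_inc B g rfl (φ.hom.app (op (Over.mk f)) q))).trans ?_
      exact congrArg (fun w => (inc B (Q.obj.map g.op q) w).1)
        (NatTrans.naturality_apply φ.hom (Over.homMk g : Over.mk (g ≫ f) ⟶ Over.mk f).op q).symm,
     fun U f q q' h => by
      have ha : φ.hom.app (op (Over.mk f)) (q + q') =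
          φ.hom.app (op (Over.mk f)) q + φ.hom.app (op (Over.mk f)) q' := map_add _ q q'
      refine (congrArg (fun w => (inc B (q + q') w).1) ha).trans ?_
      refine (congrArg (B.act U _) (add₂_e₁ B q q').symm).trans ?_
      exact (add₁_act₂ (flip B) _ _ (e₁ B q) (e₁ B q') ((πP_e₁ B q).trans (πP_e₁ B q').symm) h).symm⟩⟩
  map_zero' := ext_split B rfl fun U f q => congrArg Subtype.val (map_zero (inc B q))
  map_add' φ ψ := Subtype.ext (Prod.ext (add_zero _).symm (funext fun U => funext fun f => funext fun q =>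
    map_add (inc B q) _ _))

/-- The inclusion of the local morphisms. -/
def splitIncl : HomSh.homSh (QuotSh.J K S) Q G ⟶ splitSh B :=
  ⟨{ app := fun T => AddCommGrpCat.ofHom (splitInclApp B T.unop)
     naturality := fun T T' a => AddCommGrpCat.ext fun φ => by
      show splitInclApp B T'.unop ((HomSh.homSh (QuotSh.J K S) Q G).obj.map a φ) =
        resSplit B a.unop (splitInclApp B T.unop φ)
      exact ext_split B (map_zero (P.obj.map a.unop.op).hom).symm fun U f q => rfl }⟩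

/-- The extension of `P` by `𝓗om(Q, G)`. -/
def splitSeq : ShortComplex (BigSite.Ab K S) :=
  ShortComplex.mk (splitIncl B) (splitProj B)
    (Sheaf.hom_ext (NatTrans.ext (funext fun T => AddCommGrpCat.ext fun φ =>
      (show (splitInclApp B T.unop φ).1.1 = 0 from rfl))))

theorem splitSeq_shortExact
    (hP : ∀ φ : P ⟶ (HomSh.extSh (QuotSh.J K S) Q 1).obj G, φ = 0) : (splitSeq B).ShortExact := by
  have hmono : ∀ T : Over S, Function.Injective (splitInclApp B T) := fun T φ ψ h =>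
    Sheaf.hom_ext (NatTrans.ext (funext fun V => AddCommGrpCat.ext fun q =>
      inc_injective B q (congrFun (congrFun (congrFun (congrArg (fun z : splitGrp B T => z.1.2) h) V.unop.left)
        V.unop.hom) q)))
  refine { exact := ?_, mono_f := ?_, epi_g := ?_ }
  · refine (Groth.L27.FppfCmp.exact_iff_locally _).2 fun T z hz =>
      ⟨⊤, (QuotSh.J K S).top_mem T, fun T' a _ => ?_⟩
    let w : splitGrp B T' := resSplit B a z
    have hw : w.1.1 = 0 := (congrArg (P.obj.map a.op) hz).trans (map_zero (P.obj.map a.op).hom)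
    have hg : ∀ (U : Over S) (f : U ⟶ T') (q : Q.obj.obj (op U)), ∃ g, inc B q g = w.1.2 U f q :=
      fun U f q => exists_inc B _ (by
        refine ((w.2.1 U f q).1).trans ?_
        rw [hw, map_zero])
    choose g hg using hg
    have hnat : ∀ (U V : Over S) (f : U ⟶ T') (k : V ⟶ U) q,
        G.obj.map k.op (g U f q) = g V (k ≫ f) (Q.obj.map k.op q) := fun U V f k q =>
      inc_injective B _ (by
        rw [hg, ← resF_inc B k rfl, hg]
        exact Subtype.ext (w.2.2.1 U V f k q))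
    have hadd : ∀ (U : Over S) (f : U ⟶ T') q q', g U f (q + q') = g U f q + g U f q' := fun U f q q' =>
      inc_injective B (q + q') (by
        rw [hg]
        have hh := (w.2.1 U f q).1.trans (w.2.1 U f q').1.symm
        refine Subtype.ext ((w.2.2.2 U f q q' hh).trans ?_)
        refine (add₂_congr B (congrArg Subtype.val (hg U f q)).symm (congrArg Subtype.val (hg U f q')).symm _
          (((B.πP_act _ _ _).trans (πP_e₁ B q)).trans ((B.πP_act _ _ _).trans (πP_e₁ B q')).symm)).trans ?_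
        exact (add₁_act₂ (flip B) _ _ (e₁ B q) (e₁ B q') ((πP_e₁ B q).trans (πP_e₁ B q').symm) _).trans
          (congrArg (B.act U _) (add₂_e₁ B q q')))
    let φ : Q.over T' ⟶ G.over T' :=
      ⟨{ app := fun V => AddCommGrpCat.ofHom (AddMonoidHom.mk' (g V.unop.left V.unop.hom) (hadd _ _))
         naturality := fun V V' m => AddCommGrpCat.ext fun (q : Q.obj.obj (op V.unop.left)) => by
           show g V'.unop.left V'.unop.hom (Q.obj.map m.unop.left.op q) =
             G.obj.map m.unop.left.op (g V.unop.left V.unop.hom q)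
           rw [hnat, Over.w] }⟩
    exact ⟨φ, ext_split B hw.symm fun U f q => congrArg Subtype.val (hg U f q)⟩
  · exact Groth.L07.BiextTriv.mono_of_injective _ hmono
  · rw [← Sheaf.isLocallySurjective_iff_epi']
    refine ⟨fun {T} p => ?_⟩
    obtain ⟨W, hW, h⟩ := exists_partSplit_locally (B := B) hP T p
    refine (QuotSh.J K S).superset_covering (fun T' a ha => ?_) hW
    obtain ⟨s, hs⟩ := h a ha
    exact ⟨(⟨(P.obj.map a.op p, fun U f q => ⟨s U f q, (hs.1 U f q).2⟩), hs⟩ : splitGrp B T'), rfl⟩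

variable [HasExt.{w} (BigSite.Ab K S)]

/-- The main criterion. -/
theorem isTrivial
    (h₁ : ∀ e : Abelian.Ext.{w} P (HomSh.homSh (QuotSh.J K S) Q G) 1, e = 0)
    (h₂ : ∀ φ : P ⟶ (HomSh.extSh (QuotSh.J K S) Q 1).obj G, φ = 0) :
    Biext.IsTrivial (QuotSh.J K S) B := by
  have hS := splitSeq_shortExact B h₂
  obtain ⟨x₂, hx₂⟩ := Abelian.Ext.covariant_sequence_exact₃ P hS (Abelian.Ext.mk₀ (𝟙 P)) (zero_add 1) (h₁ _)
  obtain ⟨σ, rfl⟩ := Abelian.Ext.homEquiv₀.symm.surjective x₂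
  have hσ : σ ≫ splitProj B = 𝟙 P := by
    apply Abelian.Ext.homEquiv₀.symm.injective
    refine Eq.trans ?_ hx₂
    exact (Abelian.Ext.mk₀_comp_mk₀ σ (splitSeq B).g).symm
  let z : ∀ T : Over S, P.obj.obj (op T) →+ splitGrp B T := fun T => (σ.hom.app (op T)).hom
  have hz : ∀ (T : Over S) p, (z T p).1.1 = p := fun T p =>
    ConcreteCategory.congr_hom (congrArg (fun φ : P ⟶ P => φ.hom.app (op T)) hσ) p
  refine ⟨{ σ := fun T p q => ((z T p).1.2 T (𝟙 T) q).1
            πP_σ := fun T p q => ?_, πQ_σ := fun T p q => ((z T p).1.2 T (𝟙 T) q).2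
            σ_map := ?_, σ_add₁ := ?_, σ_add₂ := ?_ }⟩
  · exact (((z T p).2.1 T (𝟙 T) q).1.trans (map_id' P _)).trans (hz T p)
  · intro T T' f p q
    refine ((z T p).2.2.1 T T' (𝟙 T) f q).trans ?_
    have e : resSplit B f (z T p) = z T' (P.obj.map f.op p) :=
      (NatTrans.naturality_apply σ.hom f.op p).symm
    refine Eq.trans ?_ (congrArg (fun w : splitGrp B T' => (w.1.2 T' (𝟙 T') (Q.obj.map f.op q)).1) e)
    exact split_congr B _ (by simp) rfl
  · intro T p p' q
    exact congrArg (fun w : splitGrp B T => (w.1.2 T (𝟙 T) q).1) (map_add (z T) p p')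
  · intro T p q q'
    exact (z T p).2.2.2 T (𝟙 T) q q' _

end Groth.L07.BiextTriv
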